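import Cfsg.Agent.Lib.ClassSizeMid.Spec

/-!
A prime divisor `q` of `m` divides it only once, when the class sizes are `1`, `m` and `m * n`
with `m`, `n` coprime.
-/

set_option autoImplicit false
set_option linter.style.haveILetI false

namespace CfsgLib.ClassSizeMid

open Subgroup Cfsg.Agent.CoprimeTopClasses
open scoped commutatorElement Pointwise

variable {G : Type*} [Group G] [Finite G] {q : ℕ} [hq : Fact q.Prime]

omit hq in
theorem central_of_pow_mem {g : G} {k : ℕ} (hco : (orderOf g).Coprime k) (h : g ^ k ∈ center G) :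
    g ∈ center G := by
  obtain ⟨i, hi⟩ := exists_pow_eq_self_of_coprime (x := g) (n := k) hco.symm
  exact hi ▸ pow_mem h i

theorem exists_conj_mem_sylow {u : G} (hu : QEl q u) (Q : Sylow q G) :
    ∃ g : G, g * u * g⁻¹ ∈ (Q : Subgroup G) := by
  obtain ⟨S, hS⟩ := (qel_iff_zpowers.1 hu).exists_le_sylow
  obtain ⟨g, hg⟩ := MulAction.exists_smul_eq G S Q
  refine ⟨g, ?_⟩
  rw [← hg]
  exact ⟨u, hS (mem_zpowers u), rfl⟩

theorem exists_spec_normal {N : Subgroup G} (hN : N.Normal) {u : G} (hu : QEl q u) (huN : u ∈ N)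
    (huc : u ∉ center G) (Q : Sylow q G) :
    ∃ e ∈ N, Spec q (Q : Subgroup G) e := by
  obtain ⟨g, hg⟩ := exists_conj_mem_sylow hu Q
  have hnc : g * u * g⁻¹ ∉ center G := fun h => huc (by
    have := (inferInstance : (center G).Normal).conj_mem _ h g⁻¹
    simpa [mul_assoc] using this)
  obtain ⟨e, he, hs⟩ := exists_spec Q.isPGroup' (inf_le_right : N ⊓ (Q : Subgroup G) ≤ (Q : Subgroup G))
    (fun x (hx : x ∈ (Q : Subgroup G)) => Coprime.mem_normalizer_of_conj_map_le fun y hy =>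
      Subgroup.mem_inf.2 ⟨hN.conj_mem y (Subgroup.mem_inf.1 hy).1 x,
        mul_mem (mul_mem hx (Subgroup.mem_inf.1 hy).2) (inv_mem hx)⟩)
    (fun hle => hnc (hle ⟨hN.conj_mem u huN g, hg⟩))
  exact ⟨e, he.1, hs⟩

omit hq in
/-- A solvable normal subgroup outside the centre yields a normal subgroup that is elementary
abelian modulo the centre. -/
theorem exists_elementary_normal {N : Subgroup G} (hN : N.Normal) (hs : Group.IsSolvable N)
    (hnc : ¬ N ≤ center G) :
    ∃ (r : ℕ) (V : Subgroup G), r.Prime ∧ V.Normal ∧ ¬ V ≤ center G ∧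
      (∀ u ∈ V, u ^ r ∈ center G) ∧ ∀ u ∈ V, ∀ v ∈ V, u * v * u⁻¹ * v⁻¹ ∈ center G := by
  classical
  haveI := hs
  haveI := hN
  set π := QuotientGroup.mk' (center G)
  set Nb := N.map π with hNb
  haveI : Nb.Normal := hN.map π (QuotientGroup.mk'_surjective _)
  haveI : Group.IsSolvable Nb := Group.isSolvable_of_surjective (π.subgroupMap_surjective N)
  have hNb1 : Nb ≠ ⊥ := fun h => hnc fun x hx => by
    have h1 : π x ∈ Nb := mem_map_of_mem π hx
    rw [h, mem_bot] at h1
    exact (QuotientGroup.eq_one_iff x).1 h1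
  have hex : ∃ k, derivedSeries Nb k = ⊥ := (Group.isSolvable_def Nb).1 inferInstance
  have h0 : Nat.find hex ≠ 0 := by
    intro h
    have h1 := Nat.find_spec hex
    rw [h, derivedSeries_zero] at h1
    have h2 := congrArg (fun K : Subgroup Nb => Nat.card K) h1
    simp only [Subgroup.card_top, Subgroup.card_bot] at h2
    exact hNb1 (Subgroup.card_eq_one.1 h2)
  set D := derivedSeries Nb (Nat.find hex - 1) with hD
  have hDne : D ≠ ⊥ := Nat.find_min hex (by omega)
  have hDab : ⁅D, D⁆ = ⊥ := by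
    rw [hD, ← derivedSeries_succ, Nat.sub_add_cancel (Nat.one_le_iff_ne_zero.2 h0)]
    exact Nat.find_spec hex
  set A := D.map Nb.subtype with hA
  have hAn : A.Normal := inferInstance
  have hAab : ∀ a ∈ A, ∀ b ∈ A, a * b = b * a := by
    rintro _ ⟨a, ha, rfl⟩ _ ⟨b, hb, rfl⟩
    have h1 := mem_centralizer_iff.1 (commutator_eq_bot_iff_le_centralizer.1 hDab ha) b hb
    exact congrArg Subtype.val h1.symm
  have hA1 : Nat.card A ≠ 1 := fun h => hDne (by
    rw [← Subgroup.card_eq_one, ← Coprime.card_map_subtype D]; exact h)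
  obtain ⟨r, hr, hrd⟩ := Nat.exists_prime_and_dvd hA1
  haveI : Fact r.Prime := ⟨hr⟩
  obtain ⟨a, ha⟩ := exists_prime_orderOf_dvd_card' (G := A) r hrd
  let W : Subgroup (G ⧸ center G) :=
    { carrier := {u | u ∈ A ∧ u ^ r = 1}
      one_mem' := ⟨one_mem A, one_pow r⟩
      mul_mem' := fun {u v} hu hv => ⟨mul_mem hu.1 hv.1, by
        rw [(show Commute u v from hAab u hu.1 v hv.1).mul_pow, hu.2, hv.2, one_mul]⟩
      inv_mem' := fun {u} hu => ⟨inv_mem hu.1, by rw [inv_pow, hu.2, inv_one]⟩ }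
  refine ⟨r, W.comap π, hr, ?_, fun hle => ?_, fun u hu => ?_, fun u hu v hv => ?_⟩
  · refine Subgroup.Normal.comap ⟨fun u hu g => ?_⟩ π
    exact ⟨hAn.conj_mem u hu.1 g, by rw [conj_pow, hu.2, mul_one, mul_inv_cancel]⟩
  · obtain ⟨y, hy⟩ := QuotientGroup.mk'_surjective (center G) (a : G ⧸ center G)
    have hyW : π y ∈ W := by
      rw [hy]
      exact ⟨a.2, by rw [← ha, ← orderOf_coe, pow_orderOf_eq_one]⟩
    have h1 : π y = 1 := (QuotientGroup.eq_one_iff y).2 (hle hyW)
    rw [hy] at h1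
    rw [← orderOf_coe, h1, orderOf_one] at ha
    exact hr.one_lt.ne ha
  · refine (QuotientGroup.eq_one_iff _).1 ?_
    show π (u ^ r) = 1
    rw [map_pow]; exact hu.2
  · refine (QuotientGroup.eq_one_iff _).1 ?_
    show π (u * v * u⁻¹ * v⁻¹) = 1
    rw [map_mul, map_mul, map_mul, map_inv, map_inv, hAab _ hu.1 _ hv.1]
    group

variable {m n : ℕ} (H : Hyp G m n) (hqm : q ∣ m)

include H hqm in
/-- The `q'`-part of the centralizer of a `q`-element in a class of size `m` is not central. -/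
theorem Ap_noncentral {e : G} (he : QEl q e) (hcl : cl e = m) : ¬ Ap q e ≤ center G := by
  intro hle
  have hec := not_central_of_cl H (Or.inl hcl)
  obtain ⟨y, hy⟩ := H.exmn
  have h1 := Ap_card_cl H hqm he hec
  have h2 := (C y).card_mul_index
  rw [hcl] at h1
  rw [show (C y).index = m * n from hy, ← h1, ← mul_assoc] at h2
  have hm0 : 0 < m := by have := H.hm; omega
  have h3 : Nat.card (C y) * m * n = Nat.card (Ap q e) * q ^ cexp G q m * m := h2
  have h4 : Nat.card (C y) * n = Nat.card (Ap q e) * q ^ cexp G q m :=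
    Nat.eq_of_mul_eq_mul_right hm0 (by rw [← h3]; ring)
  obtain ⟨k, hk⟩ := card_dvd_of_le (hle.trans (center_le_C y))
  rw [hk, mul_assoc] at h4
  have h5 : n ∣ q ^ cexp G q m := Dvd.intro_left k (Nat.eq_of_mul_eq_mul_left Nat.card_pos h4)
  have h6 : n.Coprime (q ^ cexp G q m) :=
    Nat.Coprime.pow_right _ (hq.out.coprime_iff_not_dvd.2 (not_dvd_n H hqm)).symm
  exact H.hn.ne' (h6.eq_one_of_dvd h5)

include H hqm in
/-- `q` divides `m` exactly once. -/
theorem a_eq_one : m.factorization q = 1 := by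
  by_contra ha
  have hsp : ∀ (Q : Sylow q G) (e : G), Spec q (Q : Subgroup G) e → Ap q e ≤ center G :=
    fun Q e h => by_contra fun hA => ha (a_eq_one_of_noncentral H hqm Q h hA)
  -- a special element, necessarily in a class of size `m * n`
  obtain ⟨u, hu, huc⟩ := exists_noncentral_qel H hqm
  obtain ⟨e₀, -, he₀⟩ := exists_spec_normal (N := ⊤) inferInstance hu (mem_top u) huc (default : Sylow q G)
  have he₀q := he₀.qel (Sylow.isPGroup' _)
  have hAe₀ := hsp _ _ he₀
  have hcle₀ : cl e₀ = m * n := (cl_cases H he₀.nc).resolve_left fun h =>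
    Ap_noncentral H hqm he₀q h hAe₀
  -- the `q'`-elements centralizing an element of a class of size `m * n` are central
  have hMN : ∀ y : G, cl y = m * n → ∀ g ∈ C y, CoEl q g → g ∈ center G := by
    intro y hy g hg hgc
    have h1 : Nat.card (C y) = Nat.card (Ap q e₀) * q ^ cexp G q m := by
      have h2 := (C y).card_mul_index
      rw [show (C y).index = m * n from hy, ← Ap_card_cl H hqm he₀q he₀.nc, hcle₀] at h2
      exact Nat.eq_of_mul_eq_mul_right (by
        have := H.hm; have := H.hn; exact Nat.mul_pos (by omega) (by omega)) h2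
    have hAy : Ap q e₀ ≤ C y := hAe₀.trans (center_le_C y)
    haveI : ((Ap q e₀).subgroupOf (C y)).Normal := ⟨fun a ha b => by
      rw [mem_subgroupOf] at ha ⊢
      push_cast
      rw [mem_center_iff.1 (hAe₀ ha) b, mul_inv_cancel_right]; exact ha⟩
    have h2 : ((Ap q e₀).subgroupOf (C y)).index = q ^ cexp G q m := by
      have h3 := ((Ap q e₀).subgroupOf (C y)).card_mul_index
      rw [Nat.card_congr (subgroupOfEquivOfLe hAy).toEquiv, h1] at h3
      exact Nat.eq_of_mul_eq_mul_left Nat.card_pos h3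
    have h4 : (⟨g, hg⟩ : C y) ^ ((Ap q e₀).subgroupOf (C y)).index ∈ (Ap q e₀).subgroupOf (C y) :=
      Subgroup.pow_index_mem _ _
    rw [h2, mem_subgroupOf] at h4
    push_cast at h4
    exact central_of_pow_mem (Nat.Coprime.pow_right _ hgc) (hAe₀ h4)
  -- `m` is a power of `q`
  obtain ⟨a, hma⟩ : ∃ a, m = q ^ a := by
    refine ⟨_, Nat.eq_prime_pow_of_unique_prime_dvd (by have := H.hm; omega) fun {s} hs hsm => ?_⟩
    by_contra hsq
    haveI : Fact s.Prime := ⟨hs⟩
    obtain ⟨w, hw, ⟨k, hk⟩, hwc⟩ := exists_qel (q := s) H hsm he₀.nc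
    refine hwc (hMN e₀ hcle₀ w hw ?_)
    rw [CoEl, hk]
    exact Nat.Coprime.pow_left _ ((Nat.coprime_primes hs hq.out).2 hsq)
  -- centralizers of non-central `q'`-elements
  have hcoT : ∀ v : G, CoEl q v → v ∉ center G →
      cl v = m ∧ ∀ f ∈ C v, QEl q f → f ∉ center G → C f = C v := by
    intro v hv hvc
    have hclv : cl v = m := (cl_cases H hvc).resolve_right fun h => hvc (hMN v h v (self_mem_C v) hv)
    refine ⟨hclv, fun f hf hfq hfc => ?_⟩
    have hfv : Commute f v := mem_C.1 hf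
    have hC := C_mul_eq_inf hfv (coprime_of_el hfq hv)
    have hnc : f * v ∉ center G := by
      intro h
      rw [central_iff_C, hC] at h
      exact hvc (central_iff_C.2 (top_le_iff.1 (h ▸ inf_le_right)))
    have hvin : v ∈ C (f * v) := hC ▸ ⟨mem_C.2 hfv.eq.symm, self_mem_C v⟩
    have hclfv : cl (f * v) = m :=
      (cl_cases H hnc).resolve_right fun h => hvc (hMN _ h v hvin hv)
    have h1 : C (f * v) = C v := eq_of_le_of_cl (hC ▸ inf_le_right) (hclfv.trans hclv.symm)
    have hle : C (f * v) ≤ C f := hC ▸ inf_le_left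
    have hclf : cl f = m := (cl_cases H hfc).resolve_right fun h => by
      have h3 := Nat.le_of_dvd (cl_pos _) (index_dvd_of_le hle)
      have h3' : m * n ≤ m := by
        change cl f ≤ cl (f * v) at h3
        rwa [hclfv, h] at h3
      have := H.hm; have := H.hn
      nlinarith
    exact (eq_of_le_of_cl hle (hclfv.trans hclf.symm)).symm.trans h1
  -- a `q`-element in a class of size `m`
  obtain ⟨x, hxq, hclx⟩ : ∃ x : G, QEl q x ∧ cl x = m := by
    obtain ⟨y, hy⟩ := H.exm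
    obtain ⟨y₁, h1, y₂, h2, e, hy1, hy2⟩ := exists_parts q y
    by_cases hy2c : y₂ ∈ center G
    · exact ⟨y₁, hy1, by rw [← hy, ← e]; exact congrArg Subgroup.index (C_mul_center hy2c).symm⟩
    · obtain ⟨f, hf, hfq, hfc⟩ := exists_qel H hqm hy2c
      exact ⟨f, hfq, (congrArg Subgroup.index ((hcoT y₂ hy2 hy2c).2 f hf hfq hfc)).trans
        (hcoT y₂ hy2 hy2c).1⟩
  have hxc := not_central_of_cl H (Or.inl hclx)
  obtain ⟨r, V, hr, hVn, hVc, hVpow, hVcomm⟩ := exists_elementary_normal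
    (normalClosure_normal (s := ({x} : Set G)))
    (CfsgLib.CharDeep.PrimePowerClass.isSolvable_normalClosure x hq.out a (hclx.trans hma))
    (fun h => hxc (h (subset_normalClosure rfl)))
  haveI : Fact r.Prime := ⟨hr⟩
  -- the `r`-part of a non-central element of `V`
  have hpart : ∀ w ∈ V, w ∉ center G →
      ∃ w₁ ∈ V, QEl r w₁ ∧ w₁ ∉ center G ∧ C w₁ = C w := by
    intro w hw hwc
    obtain ⟨w₁, h1, w₂, h2, e, hw1, hw2⟩ := exists_parts r w
    have hw₂c : w₂ ∈ center G := central_of_pow_mem hw2 (hVpow w₂ (zpowers_le.2 hw h2))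
    have hCw : C w₁ = C w := by rw [← e, C_mul_center hw₂c]
    exact ⟨w₁, zpowers_le.2 hw h1, hw1, fun h => hwc (central_iff_C.2 (hCw ▸ central_iff_C.1 h)), hCw⟩
  obtain ⟨w₀, hw₀, hw₀c⟩ := SetLike.not_le_iff_exists.1 hVc
  obtain ⟨v₀, hv₀, hv₀r, hv₀c, -⟩ := hpart w₀ hw₀ hw₀c
  by_cases hrq : r = q
  · subst hrq
    obtain ⟨Q, hQ⟩ := (qel_iff_zpowers.1 hxq).exists_le_sylow
    obtain ⟨e, heV, he⟩ := exists_spec_normal hVn hv₀r hv₀ hv₀c Q
    obtain ⟨v, hv, hvc⟩ := SetLike.not_le_iff_exists.1 (Ap_noncentral H hqm hxq hclx)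
    obtain ⟨hvx, hvco⟩ := ((Ap_eq H hqm hxq hxc).2.1 v).1 hv
    have hxQ : x ∈ (Q : Subgroup G) := hQ (mem_zpowers x)
    have hex : C (e * x * e⁻¹) = C x := by
      refine C_conj_eq ?_
      have h1 := inv_mem (he.comm x hxQ)
      rwa [show (x * e * x⁻¹ * e⁻¹)⁻¹ = e * x * e⁻¹ * x⁻¹ by group] at h1
    have h2 : e * v * e⁻¹ ∈ Ap r x :=
      ((Ap_eq H hqm hxq hxc).2.1 _).2 ⟨hex ▸ conj_mem_C.2 hvx, hvco.conj e⟩
    have h3 : e * v * e⁻¹ * v⁻¹ ∈ Ap r x := mul_mem h2 (inv_mem hv)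
    have h4 : e * v * e⁻¹ * v⁻¹ ∈ V := by
      rw [show e * v * e⁻¹ * v⁻¹ = e * (v * e⁻¹ * v⁻¹) by group]
      exact mul_mem heV (hVn.conj_mem _ (inv_mem heV) v)
    have h5 := central_of_pow_mem ((((Ap_eq H hqm hxq hxc).2.1 _).1 h3).2) (hVpow _ h4)
    have h6 := commute_of_comm_mem_center (coprime_of_el (he.qel Q.isPGroup') hvco) h5
    exact hvc (hsp Q e he (((Ap_eq H hqm (he.qel Q.isPGroup') he.nc).2.1 v).2 ⟨mem_C.2 h6.eq.symm, hvco⟩))
  have hrco : ∀ {v : G}, QEl r v → CoEl q v := fun {v} ⟨k, hk⟩ => by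
    rw [CoEl, hk]; exact Nat.Coprime.pow_left _ ((Nat.coprime_primes hr hq.out).2 hrq)
  -- `V` is abelian
  have hVab : ∀ v ∈ V, QEl r v → v ∉ center G → V ≤ C v := by
    intro v hv hvr hvc u hu
    have hnorm : zpowers u ≤ normalizer (C v : Set G) := by
      refine zpowers_le.2 (Coprime.mem_normalizer_of_conj_map_le fun y hy => ?_)
      exact C_conj_eq (hVcomm u hu v hv) ▸ conj_mem_C.2 hy
    set K := zpowers u ⊔ C v with hK
    haveI : ((C v).subgroupOf K).Normal :=
      (normal_subgroupOf_iff_le_normalizer le_sup_right).2 (sup_le hnorm le_normalizer)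
    have h1 : (⟨u, mem_sup_left (mem_zpowers u)⟩ : K) ^ ((C v).subgroupOf K).index ∈
        (C v).subgroupOf K := Subgroup.pow_index_mem _ _
    rw [mem_subgroupOf] at h1
    push_cast at h1
    obtain ⟨j, hj⟩ : ((C v).subgroupOf K).index ∣ q ^ a := by
      have := relIndex_dvd_index_of_le (le_sup_right : C v ≤ K)
      rwa [show (C v).index = m from (hcoT v (hrco hvr) hvc).1, hma] at this
    have h2 : u ^ q ^ a ∈ C v := by rw [hj, pow_mul]; exact pow_mem h1 j
    have h3 : u ^ r ∈ C v := center_le_C v (hVpow u hu)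
    have h4 : (Nat.gcd r (q ^ a)) = 1 := Nat.Coprime.pow_right _ ((Nat.coprime_primes hr hq.out).2 hrq)
    have h5 := Nat.gcd_eq_gcd_ab r (q ^ a)
    rw [h4] at h5
    rw [← zpow_one u, show (1 : ℤ) = r * r.gcdA (q ^ a) + (q ^ a : ℕ) * r.gcdB (q ^ a) by exact_mod_cast h5,
      zpow_add, zpow_mul, zpow_mul, zpow_natCast, zpow_natCast]
    exact mul_mem (zpow_mem h3 _) (zpow_mem h2 _)
  obtain ⟨f, hf, hfq, hfc⟩ := exists_qel H hqm hv₀c
  have hsame : ∀ v ∈ V, QEl r v → v ∉ center G → C v = C v₀ := by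
    intro v hv hvr hvc
    have hCf := (hcoT v₀ (hrco hv₀r) hv₀c).2 f hf hfq hfc
    have h1 : v ∈ C f := hCf ▸ hVab v₀ hv₀ hv₀r hv₀c hv
    exact ((hcoT v (hrco hvr) hvc).2 f (mem_C_symm h1) hfq hfc).symm.trans hCf
  have hCn : (C v₀).Normal := ⟨fun y hy g => by
    have h1 : C (g * v₀ * g⁻¹) = C v₀ := hsame _ (hVn.conj_mem _ hv₀ g) (hv₀r.conj g) fun h => hv₀c (by
      have := (inferInstance : (center G).Normal).conj_mem _ h g⁻¹
      simpa [mul_assoc] using this)
    exact h1 ▸ conj_mem_C.2 hy⟩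
  obtain ⟨e, heC, he⟩ := exists_spec_normal hCn hfq hf hfc (default : Sylow q G)
  exact hv₀c (hsp _ e he (((Ap_eq H hqm (he.qel (Sylow.isPGroup' _)) he.nc).2.1 v₀).2
    ⟨mem_C_symm heC, hrco hv₀r⟩))

end CfsgLib.ClassSizeMid
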