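import Cfsg.Agent.Lib.KGroups.CoprimeTopClasses
import Cfsg.Agent.Lib.PGroup.IndexPow
import Cfsg.Agent.Lib.Coprime.Sylow

/-!
Groups whose class sizes are `1`, `m` and `m * n` with `m`, `n` coprime: the centralizer of a
non-central `q`-element, `q` a prime divisor of `m`, is the direct product of its Sylow
`q`-subgroup and the set of its `q'`-elements.
-/

set_option autoImplicit false
set_option linter.style.haveILetI false

namespace CfsgLib.ClassSizeMid

open Subgroup Cfsg.Agent.CoprimeTopClasses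
open scoped commutatorElement

variable {G : Type*} [Group G] [Finite G]

/-- The class sizes are `1`, `m` and `m * n`. -/
structure Hyp (G : Type*) [Group G] (m n : ℕ) : Prop where
  hm : 1 < m
  hn : 1 < n
  hcop : m.Coprime n
  mem : ∀ z : G, cl z = 1 ∨ cl z = m ∨ cl z = m * n
  exm : ∃ z : G, cl z = m
  exmn : ∃ z : G, cl z = m * n

/-- Elements of `q`-power order. -/
def QEl (q : ℕ) (g : G) : Prop := ∃ k : ℕ, orderOf g = q ^ k

/-- Elements of order prime to `q`. -/
def CoEl (q : ℕ) (g : G) : Prop := (orderOf g).Coprime q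

/-- The exponent of the `q`-part of a proper centralizer. -/
noncomputable def cexp (G : Type*) [Group G] (q m : ℕ) : ℕ :=
  (Nat.card G).factorization q - m.factorization q

/-- The subgroup generated by the `q`-elements of a centralizer. -/
def Pp (q : ℕ) (e : G) : Subgroup G := closure {g | g ∈ C e ∧ QEl q g}

/-- The subgroup generated by the `q'`-elements of a centralizer. -/
def Ap (q : ℕ) (e : G) : Subgroup G := closure {g | g ∈ C e ∧ CoEl q g}

section General

variable {q : ℕ} [hq : Fact q.Prime]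

omit [Finite G] in
theorem cl_eq_one_iff {z : G} : cl z = 1 ↔ z ∈ center G := by
  rw [central_iff_C]; exact Subgroup.index_eq_one

omit [Finite G] in
theorem QEl.conj {g : G} (h : QEl q g) (x : G) : QEl q (x * g * x⁻¹) := by
  obtain ⟨k, hk⟩ := h
  exact ⟨k, by rw [← hk]; exact orderOf_injective (MulAut.conj x).toMonoidHom (MulAut.conj x).injective g⟩

omit [Finite G] hq in
theorem CoEl.conj {g : G} (h : CoEl q g) (x : G) : CoEl q (x * g * x⁻¹) := by
  have h2 : orderOf (x * g * x⁻¹) = orderOf g :=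
    orderOf_injective (MulAut.conj x).toMonoidHom (MulAut.conj x).injective g
  rw [CoEl, h2]; exact h

theorem coprime_of_el {g h : G} (hg : QEl q g) (hh : CoEl q h) : (orderOf g).Coprime (orderOf h) := by
  obtain ⟨k, hk⟩ := hg
  rw [hk]
  exact Nat.Coprime.pow_left k (Nat.Coprime.symm hh)

theorem qel_iff_zpowers {g : G} : QEl q g ↔ IsPGroup q (zpowers g) := by
  refine ⟨fun ⟨k, hk⟩ => IsPGroup.of_card (by rw [Nat.card_zpowers, hk]), fun h => ?_⟩
  obtain ⟨k, hk⟩ := h.exists_card_eq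
  exact ⟨k, by rw [← Nat.card_zpowers, hk]⟩

theorem qel_of_mem {P : Subgroup G} (hP : IsPGroup q P) {g : G} (hg : g ∈ P) : QEl q g :=
  qel_iff_zpowers.2 (hP.to_le (zpowers_le.2 hg))

theorem CoEl.of_mem_zpowers {g h : G} (hg : CoEl q g) (hh : h ∈ zpowers g) : CoEl q h :=
  Nat.Coprime.coprime_dvd_left (orderOf_dvd_of_mem_zpowers hh) hg

theorem QEl.of_mem_zpowers {g h : G} (hg : QEl q g) (hh : h ∈ zpowers g) : QEl q h :=
  qel_of_mem (qel_iff_zpowers.1 hg) hh

/-- Splitting into commuting `q`- and `q'`-parts. -/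
theorem exists_parts (q : ℕ) [hq : Fact q.Prime] (y : G) :
    ∃ y₁ ∈ zpowers y, ∃ y₂ ∈ zpowers y, y₁ * y₂ = y ∧ QEl q y₁ ∧ CoEl q y₂ := by
  obtain ⟨y₁, h1, y₂, h2, e, hpi, hco⟩ := exists_split q hq.out.pos y
  refine ⟨y₁, h1, y₂, h2, e, ?_, hco⟩
  refine ⟨_, Nat.eq_prime_pow_of_unique_prime_dvd (orderOf_pos y₁).ne' fun {d} hd hdd => ?_⟩
  exact (Nat.prime_dvd_prime_iff_eq hd hq.out).1 (hpi d hd hdd)

theorem el_eq_one {g : G} (h1 : QEl q g) (h2 : CoEl q g) : g = 1 :=
  orderOf_eq_one_iff.1 ((Nat.coprime_self _).1 (coprime_of_el h1 h2))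

omit hq in
/-- A commutator of coprime elements that is central is trivial. -/
theorem commute_of_comm_mem_center {g y : G} (hco : (orderOf g).Coprime (orderOf y))
    (hz : g * y * g⁻¹ * y⁻¹ ∈ center G) : Commute g y := by
  set z := g * y * g⁻¹ * y⁻¹ with hzdef
  have hzy : g * y * g⁻¹ = z * y := by rw [hzdef]; group
  have hy1 : z ^ orderOf y = 1 := by
    have h2 : (g * y * g⁻¹) ^ orderOf y = 1 := by rw [conj_pow, pow_orderOf_eq_one]; simp
    rwa [hzy, (show Commute z y from (mem_center_iff.1 hz y).symm).mul_pow, pow_orderOf_eq_one,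
      mul_one] at h2
  have hit : ∀ i : ℕ, g ^ i * y * (g ^ i)⁻¹ = z ^ i * y := by
    intro i
    induction i with
    | zero => simp
    | succ i ih =>
      calc g ^ (i + 1) * y * (g ^ (i + 1))⁻¹ = g * (g ^ i * y * (g ^ i)⁻¹) * g⁻¹ := by
            rw [pow_succ']; group
        _ = (g * z ^ i * g⁻¹) * (g * y * g⁻¹) := by rw [ih]; group
        _ = z ^ i * (z * y) := by
            rw [hzy, mem_center_iff.1 (pow_mem hz i) g, mul_inv_cancel_right]
        _ = z ^ (i + 1) * y := by rw [pow_succ]; group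
  have hg1 : z ^ orderOf g = 1 := by
    have := hit (orderOf g)
    rw [pow_orderOf_eq_one] at this
    simpa using this.symm
  have hz1 : z = 1 := by
    have := pow_gcd_eq_one (m := orderOf g) (n := orderOf y) |>.2 ⟨hg1, hy1⟩
    rwa [hco.gcd_eq_one, pow_one] at this
  rw [hz1, one_mul, mul_inv_eq_iff_eq_mul] at hzy
  exact hzy

omit [Finite G] hq in
theorem C_inf_le_mul {a b : G} : C a ⊓ C b ≤ C (a * b) := fun _ hg =>
  mem_C.2 ((show Commute _ a from mem_C.1 hg.1).mul_right (mem_C.1 hg.2)).eq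

omit hq in
theorem C_mul_eq_inf {a b : G} (hab : Commute a b) (h : (orderOf a).Coprime (orderOf b)) :
    C (a * b) = C a ⊓ C b :=
  le_antisymm (le_inf (C_mul_le hab h).1 (C_mul_le hab h).2) C_inf_le_mul

omit [Finite G] hq in
theorem C_conj_eq {e g : G} (hz : g * e * g⁻¹ * e⁻¹ ∈ center G) : C (g * e * g⁻¹) = C e := by
  have h : g * e * g⁻¹ = e * (g * e * g⁻¹ * e⁻¹) := by
    rw [mem_center_iff.1 hz e]; group
  rw [h, C_mul_center hz]

/-- The image of a `q`-subgroup of a centralizer. -/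
theorem card_qsubgroup_le {y : G} {P : Subgroup G} (hP : IsPGroup q P) (hPC : P ≤ C y) :
    Nat.card P ∣ q ^ (Nat.card (C y)).factorization q := by
  obtain ⟨k, hk⟩ := hP.exists_card_eq
  rw [hk]
  exact pow_dvd_pow q ((hq.out.pow_dvd_iff_le_factorization Nat.card_pos.ne').1
    (hk ▸ card_dvd_of_le hPC))

end General

variable {m n : ℕ} (H : Hyp G m n) {q : ℕ} [hq : Fact q.Prime] (hqm : q ∣ m)

include H in
theorem cl_cases {z : G} (hz : z ∉ center G) : cl z = m ∨ cl z = m * n :=
  (H.mem z).resolve_left fun h => hz (cl_eq_one_iff.1 h)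

include H in
theorem not_central_of_cl {z : G} (h : cl z = m ∨ cl z = m * n) : z ∉ center G := by
  intro hz
  have h1 := cl_eq_one_iff.2 hz
  rcases h with h | h
  · rw [h] at h1; exact H.hm.ne' h1
  · rw [h] at h1
    exact H.hm.ne' (Nat.eq_one_of_mul_eq_one_right h1)

include H hqm in
theorem not_dvd_n : ¬ q ∣ n := fun h =>
  hq.out.one_lt.ne' (Nat.dvd_one.1 (H.hcop ▸ Nat.dvd_gcd hqm h))

include H hqm in
theorem fac_cl {z : G} (hz : z ∉ center G) : (cl z).factorization q = m.factorization q := by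
  rcases cl_cases H hz with h | h <;> rw [h]
  rw [Nat.factorization_mul (by have := H.hm; omega) (by have := H.hn; omega), Finsupp.add_apply,
    Nat.factorization_eq_zero_of_not_dvd (not_dvd_n H hqm), add_zero]

include H hqm in
theorem fac_card {z : G} (hz : z ∉ center G) :
    (Nat.card (C z)).factorization q = cexp G q m ∧
      cexp G q m + m.factorization q = (Nat.card G).factorization q := by
  have h1 := congrArg (fun k => k.factorization q) (C z).card_mul_index
  simp only [Nat.factorization_mul Nat.card_pos.ne' Subgroup.index_ne_zero_of_finite,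
    Finsupp.add_apply] at h1
  change _ + (cl z).factorization q = _ at h1
  rw [fac_cl H hqm hz] at h1
  unfold cexp
  omega

include H hqm in
theorem cexp_lt : cexp G q m < (Nat.card G).factorization q := by
  obtain ⟨z, hz⟩ := H.exm
  have := (fac_card H hqm (not_central_of_cl H (Or.inl hz))).2
  have := hq.out.factorization_pos_of_dvd (show m ≠ 0 by have := H.hm; omega) hqm
  omega

include H hqm in
theorem card_le {y : G} (hy : y ∉ center G) {P : Subgroup G} (hP : IsPGroup q P) (hPC : P ≤ C y) :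
    Nat.card P ≤ q ^ cexp G q m :=
  Nat.le_of_dvd (pow_pos hq.out.pos _) ((fac_card H hqm hy).1 ▸ card_qsubgroup_le hP hPC)

include H hqm in
/-- A full `q`-subgroup of a centralizer contains the `q`-subgroups normalizing it. -/
theorem le_of_normalizes {y : G} (hy : y ∉ center G) {P R : Subgroup G} (hP : IsPGroup q P)
    (hPC : P ≤ C y) (hc : Nat.card P = q ^ cexp G q m) (hR : IsPGroup q R) (hRC : R ≤ C y)
    (hRP : R ≤ normalizer (P : Set G)) : R ≤ P := by
  have h1 : IsPGroup q (R ⊔ P : Subgroup G) := hR.to_sup_of_normal_right' hP hRP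
  have h2 := card_le H hqm hy h1 (sup_le hRC hPC)
  have h3 : P = R ⊔ P := eq_of_le_of_card_ge le_sup_right (hc.symm ▸ h2)
  exact h3.symm ▸ le_sup_left

include H hqm in
/-- A `q`-element in the centralizer of `y` lies in a full `q`-subgroup of it. -/
theorem exists_full {y : G} (hy : y ∉ center G) {R : Subgroup G} (hR : IsPGroup q R) (hRC : R ≤ C y) :
    ∃ P : Subgroup G, R ≤ P ∧ IsPGroup q P ∧ P ≤ C y ∧ Nat.card P = q ^ cexp G q m := by
  obtain ⟨S, hS⟩ := (hR.of_equiv (subgroupOfEquivOfLe hRC).symm).exists_le_sylow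
  refine ⟨(S : Subgroup (C y)).map (C y).subtype, fun x hx => ⟨⟨x, hRC hx⟩, hS hx, rfl⟩,
    S.isPGroup'.map _, map_subtype_le _, ?_⟩
  rw [Coprime.card_map_subtype, S.card_eq_multiplicity, (fac_card H hqm hy).1]

omit [Finite G] hq in
theorem sup_center_le_C (e : G) : zpowers e ⊔ center G ≤ C e :=
  sup_le (zpowers_le.2 (self_mem_C e)) (center_le_C e)

theorem fac_center_lt {e : G} (he : QEl q e) (hec : e ∉ center G) :
    (Nat.card (center G)).factorization q < (Nat.card (C e)).factorization q := by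
  have hlt : center G < zpowers e ⊔ center G :=
    lt_of_le_not_ge le_sup_right fun h => hec (h (mem_sup_left (mem_zpowers e)))
  have hdvd : (center G).relIndex (zpowers e ⊔ center G) ∣ Nat.card (zpowers e) := by
    rw [Subgroup.relIndex_sup_right]
    exact Subgroup.relIndex_dvd_card _ _
  obtain ⟨k, hk⟩ := he
  rw [Nat.card_zpowers, hk] at hdvd
  obtain ⟨i, -, hi⟩ := (Nat.dvd_prime_pow hq.out).1 hdvd
  have hi0 : i ≠ 0 := by
    rintro rfl
    rw [pow_zero, relIndex_eq_one] at hi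
    exact hlt.not_ge hi
  have h1 := relIndex_mul_relIndex ⊥ (center G) (zpowers e ⊔ center G) bot_le hlt.le
  rw [relIndex_bot_left, relIndex_bot_left, hi] at h1
  have h2 : (Nat.card (zpowers e ⊔ center G : Subgroup G)).factorization q ≤
      (Nat.card (C e)).factorization q :=
    (Nat.factorization_le_iff_dvd Nat.card_pos.ne' Nat.card_pos.ne').2
      (card_dvd_of_le (sup_center_le_C e)) q
  rw [← h1, Nat.factorization_mul Nat.card_pos.ne' (pow_ne_zero _ hq.out.ne_zero), Finsupp.add_apply,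
    hq.out.factorization_pow, Finsupp.single_eq_same] at h2
  omega

include H hqm in
theorem exists_noncentral_qel : ∃ e : G, QEl q e ∧ e ∉ center G := by
  by_contra hno
  push Not at hno
  obtain ⟨z, hz⟩ := H.exm
  have hd : q ∣ (C z).index := by rw [show (C z).index = m from hz]; exact hqm
  let S : Sylow q G := default
  have hS : (S : Subgroup G) ≤ C z := fun x hx =>
    center_le_C z (hno x (qel_of_mem S.isPGroup' hx))
  exact S.not_dvd_index (hd.trans (index_dvd_of_le hS))

include H hqm in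
theorem fac_center_lt_cexp : (Nat.card (center G)).factorization q < cexp G q m := by
  obtain ⟨e, he, hec⟩ := exists_noncentral_qel H hqm
  exact (fac_card H hqm hec).1 ▸ fac_center_lt he hec

include H hqm in
theorem full_not_central {P : Subgroup G} (hc : Nat.card P = q ^ cexp G q m) :
    ∃ u ∈ P, u ∉ center G := by
  by_contra h
  push Not at h
  have h1 : P ≤ center G := h
  have h2 := (hq.out.pow_dvd_iff_le_factorization Nat.card_pos.ne').1 (hc ▸ card_dvd_of_le h1)
  have := fac_center_lt_cexp H hqm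
  omega

include H hqm in
/-- Every centralizer of a non-central element contains a non-central `q`-element. -/
theorem exists_qel {y : G} (hy : y ∉ center G) : ∃ u ∈ C y, QEl q u ∧ u ∉ center G := by
  obtain ⟨P, -, hP, hPC, hc⟩ := exists_full H hqm hy (IsPGroup.of_bot (p := q)) bot_le
  obtain ⟨u, hu, huc⟩ := full_not_central H hqm hc
  exact ⟨u, hPC hu, qel_of_mem hP hu, huc⟩

include H hqm in
/-- The centralizer of a non-central `q`-element has a normal Sylow `q`-subgroup centralized by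
all its `q'`-elements. -/
theorem exists_split_C {e : G} (he : QEl q e) (hec : e ∉ center G) :
    ∃ P : Subgroup G, P ≤ C e ∧ IsPGroup q P ∧ Nat.card P = q ^ cexp G q m ∧
      (∀ g ∈ C e, QEl q g → g ∈ P) ∧ ∀ g ∈ C e, CoEl q g → g ∈ centralizer (P : Set G) := by
  obtain ⟨P, -, hP, hPC, hc⟩ := exists_full H hqm hec (IsPGroup.of_bot (p := q)) bot_le
  have hstep : ∀ y₂ ∈ C e, CoEl q y₂ → ∀ R : Subgroup G, IsPGroup q R → R ≤ C e → R ≤ C y₂ →
      ∃ c ∈ C e, (∀ r ∈ R, c⁻¹ * r * c ∈ P) ∧ c⁻¹ * y₂ * c ∈ centralizer (P : Set G) := by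
    intro y₂ hy2 hco R hR hRe hRy
    have hcomm : Commute e y₂ := (show Commute y₂ e from mem_C.1 hy2).symm
    have hCz := C_mul_eq_inf hcomm (coprime_of_el he hco)
    have hzc : e * y₂ ∉ center G := by
      intro hz
      rw [central_iff_C, hCz] at hz
      exact hec (central_iff_C.2 (top_le_iff.1 (hz ▸ inf_le_left)))
    obtain ⟨P', hRP', hP', hP'C, hc'⟩ := exists_full H hqm hzc hR (hCz ▸ le_inf hRe hRy)
    rw [hCz] at hP'C
    obtain ⟨S, hS⟩ := Coprime.exists_sylow_map_eq (p := q) hPC (by rw [hc, (fac_card H hqm hec).1])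
    obtain ⟨S', hS'⟩ := Coprime.exists_sylow_map_eq (p := q) (hP'C.trans inf_le_left)
      (by rw [hc', (fac_card H hqm hec).1])
    obtain ⟨k, hk⟩ := MulAction.exists_smul_eq (C e) S S'
    have hmap : P' = P.map (MulAut.conj (k : G)).toMonoidHom := by
      rw [← hS', ← hk, Coprime.map_smul_sylow, hS]
    refine ⟨k, k.2, fun r hr => ?_, mem_centralizer_iff.2 fun p hp => ?_⟩
    · have := hRP' hr
      rw [hmap] at this
      obtain ⟨p, hp, rfl⟩ := this
      simpa [mul_assoc] using hp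
    · have h1 : (k : G) * p * (k : G)⁻¹ ∈ P' := hmap ▸ ⟨p, hp, rfl⟩
      have h2 : (k : G) * p * (k : G)⁻¹ * y₂ = y₂ * ((k : G) * p * (k : G)⁻¹) :=
        mem_C.1 (hP'C h1).2
      calc p * ((k : G)⁻¹ * y₂ * k) = (k : G)⁻¹ * ((k : G) * p * (k : G)⁻¹ * y₂) * k := by group
        _ = (k : G)⁻¹ * (y₂ * ((k : G) * p * (k : G)⁻¹)) * k := by rw [h2]
        _ = (k : G)⁻¹ * y₂ * k * p := by group
  have hcov : P ⊔ (C e ⊓ centralizer (P : Set G)) = C e := by
    set N := P ⊔ (C e ⊓ centralizer (P : Set G)) with hN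
    have hNC : N ≤ C e := sup_le hPC inf_le_left
    have htop : N.subgroupOf (C e) = ⊤ := by
      refine CfsgLib.PGroup.IndexPow.eq_top_of_conj_cover fun y => ?_
      obtain ⟨y₁, h1, y₂, h2, hy, hy1, hy2⟩ := exists_parts q (y : G)
      have h1C : y₁ ∈ C e := zpowers_le.2 y.2 h1
      have h2C : y₂ ∈ C e := zpowers_le.2 y.2 h2
      have hcc : zpowers y₁ ≤ C y₂ := zpowers_le.2 (mem_C.2 (by
        obtain ⟨i, rfl⟩ := h1; obtain ⟨j, rfl⟩ := h2; rw [← zpow_add, ← zpow_add, add_comm]))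
      obtain ⟨c, hcC, hcR, hc2⟩ :=
        hstep y₂ h2C hy2 (zpowers y₁) (qel_iff_zpowers.1 hy1) (zpowers_le.2 h1C) hcc
      refine ⟨⟨c, hcC⟩, ?_⟩
      rw [mem_subgroupOf]
      push_cast
      rw [← hy, show c⁻¹ * (y₁ * y₂) * c = (c⁻¹ * y₁ * c) * (c⁻¹ * y₂ * c) by group]
      exact mul_mem (mem_sup_left (hcR _ (mem_zpowers y₁)))
        (mem_sup_right (Subgroup.mem_inf.2 ⟨mul_mem (mul_mem (inv_mem hcC) h2C) hcC, hc2⟩))
    exact le_antisymm hNC (subgroupOf_eq_top.1 htop)
  have hnorm : C e ≤ normalizer (P : Set G) := by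
    rw [← hcov]
    exact sup_le le_normalizer (inf_le_right.trans (centralizer_le_normalizer _))
  refine ⟨P, hPC, hP, hc, fun g hg hgq => ?_, fun g hg hgc => ?_⟩
  · exact le_of_normalizes H hqm hec hP hPC hc (qel_iff_zpowers.1 hgq) (zpowers_le.2 hg)
      ((zpowers_le.2 hg).trans hnorm) (mem_zpowers g)
  · obtain ⟨c, hcC, -, h2⟩ := hstep g hg hgc ⊥ (IsPGroup.of_bot (p := q)) bot_le bot_le
    refine mem_centralizer_iff.2 fun p hp => ?_
    have hp' : c⁻¹ * p * c ∈ P := (mem_normalizer_iff'.1 (hnorm hcC) _).2 (by simpa [mul_assoc] using hp)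
    have h3 := mem_centralizer_iff.1 h2 _ hp'
    calc p * g = c * ((c⁻¹ * p * c) * (c⁻¹ * g * c)) * c⁻¹ := by group
      _ = c * ((c⁻¹ * g * c) * (c⁻¹ * p * c)) * c⁻¹ := by rw [h3]
      _ = g * p := by group

include H hqm in
theorem Pp_eq {e : G} (he : QEl q e) (hec : e ∉ center G) :
    Pp q e ≤ C e ∧ IsPGroup q (Pp q e) ∧ Nat.card (Pp q e) = q ^ cexp G q m ∧
      (∀ g, g ∈ Pp q e ↔ g ∈ C e ∧ QEl q g) ∧
      ∀ g ∈ C e, CoEl q g → g ∈ centralizer (Pp q e : Set G) := by
  obtain ⟨P, hPC, hP, hc, hq1, hq2⟩ := exists_split_C H hqm he hec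
  have hEq : Pp q e = P := by
    refine le_antisymm ((closure_le _).2 fun g hg => hq1 g hg.1 hg.2) fun g hg => ?_
    exact subset_closure ⟨hPC hg, qel_of_mem hP hg⟩
  rw [hEq]
  exact ⟨hPC, hP, hc, fun g => ⟨fun h => ⟨hPC h, qel_of_mem hP h⟩, fun h => hq1 g h.1 h.2⟩, hq2⟩

include H hqm in
/-- The `q'`-elements of the centralizer of a non-central `q`-element form a subgroup of index
`q ^ c` centralizing the Sylow `q`-subgroup. -/
theorem Ap_eq {e : G} (he : QEl q e) (hec : e ∉ center G) :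
    Ap q e ≤ C e ∧ (∀ g, g ∈ Ap q e ↔ g ∈ C e ∧ CoEl q g) ∧
      Ap q e ≤ centralizer (Pp q e : Set G) ∧
      Nat.card (Ap q e) * q ^ cexp G q m = Nat.card (C e) := by
  obtain ⟨hPC, hP, hc, hmem, hcent⟩ := Pp_eq H hqm he hec
  set P := Pp q e
  have hPn : (P.subgroupOf (C e)).Normal := by
    refine ⟨fun p hp g => ?_⟩
    rw [mem_subgroupOf] at hp ⊢
    push_cast
    exact (hmem _).2 ⟨mul_mem (mul_mem g.2 (hPC hp)) (inv_mem g.2), ((hmem _).1 hp).2.conj _⟩
  have hcardP : Nat.card (P.subgroupOf (C e)) = q ^ cexp G q m := by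
    rw [Nat.card_congr (subgroupOfEquivOfLe hPC).toEquiv, hc]
  have hidx : ¬ q ∣ (P.subgroupOf (C e)).index := by
    intro hd
    have h1 := congrArg (fun k => k.factorization q) (P.subgroupOf (C e)).card_mul_index
    simp only [hcardP, Nat.factorization_mul (pow_ne_zero _ hq.out.ne_zero)
      Subgroup.index_ne_zero_of_finite, Finsupp.add_apply, hq.out.factorization_pow,
      Finsupp.single_eq_same, (fac_card H hqm hec).1] at h1
    have := hq.out.factorization_pos_of_dvd Subgroup.index_ne_zero_of_finite hd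
    omega
  obtain ⟨B, hB⟩ := Subgroup.exists_right_complement'_of_coprime (N := P.subgroupOf (C e))
    (hcardP ▸ Nat.Coprime.pow_left _ (hq.out.coprime_iff_not_dvd.2 hidx))
  have hBco : ∀ b : C e, b ∈ B → CoEl q (b : G) := by
    intro b hb
    rw [CoEl, orderOf_coe]
    refine Nat.Coprime.coprime_dvd_left (orderOf_dvd_natCard B hb) ?_
    rw [← hB.symm.index_eq_card]
    exact (hq.out.coprime_iff_not_dvd.2 hidx).symm
  have hBcent : ∀ b : C e, b ∈ B → ∀ p ∈ P, p * (b : G) = b * p := fun b hb =>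
    mem_centralizer_iff.1 (hcent _ b.2 (hBco b hb))
  have hBn : B.Normal := by
    refine ⟨fun b hb g => ?_⟩
    obtain ⟨⟨p, c⟩, hg⟩ := hB.2 g
    rw [← hg]
    have h1 : (p : C e) * ((c : C e) * b * (c : C e)⁻¹) * (p : C e)⁻¹ = (c : C e) * b * (c : C e)⁻¹ := by
      apply Subtype.ext
      have := hBcent _ (mul_mem (mul_mem c.2 hb) (inv_mem c.2)) _ (mem_subgroupOf.1 p.2)
      push_cast at this ⊢
      rw [this, mul_inv_cancel_right]
    rw [show (p : C e) * c * b * ((p : C e) * c)⁻¹ = p * (c * b * (c : C e)⁻¹) * (p : C e)⁻¹ by group, h1]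
    exact mul_mem (mul_mem c.2 hb) (inv_mem c.2)
  have hiff : ∀ g, g ∈ B.map (C e).subtype ↔ g ∈ C e ∧ CoEl q g := by
    intro g
    constructor
    · rintro ⟨b, hb, rfl⟩
      exact ⟨b.2, hBco b hb⟩
    · rintro ⟨hg, hgc⟩
      refine ⟨⟨g, hg⟩, ?_, rfl⟩
      have h1 : (⟨g, hg⟩ : C e) ^ B.index ∈ B := Subgroup.pow_index_mem B _
      have h2 : B.index = q ^ cexp G q m := by rw [hB.index_eq_card, hcardP]
      obtain ⟨i, hi⟩ := exists_pow_eq_self_of_coprime (x := (⟨g, hg⟩ : C e)) (n := B.index) (by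
        rw [h2, Subgroup.orderOf_mk]; exact Nat.Coprime.pow_left _ (Nat.Coprime.symm hgc))
      exact hi ▸ pow_mem h1 i
  have hEq : Ap q e = B.map (C e).subtype := by
    refine le_antisymm ((closure_le _).2 fun g hg => (hiff g).2 hg) fun g hg => ?_
    exact subset_closure ((hiff g).1 hg)
  rw [hEq]
  refine ⟨map_subtype_le _, hiff, fun g hg => hcent _ ((hiff g).1 hg).1 ((hiff g).1 hg).2, ?_⟩
  rw [Coprime.card_map_subtype, ← hcardP, mul_comm]
  exact hB.card_mul_card

include H hqm in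
theorem Pp_conj_eq {e g : G} (h : C (g * e * g⁻¹) = C e) :
    g ∈ normalizer (Pp q e : Set G) := by
  refine Coprime.mem_normalizer_of_conj_map_le fun x hx => ?_
  have hle : (Pp q e).map (MulAut.conj g).toMonoidHom ≤ Pp q e := by
    rw [Pp, MonoidHom.map_closure, closure_le]
    rintro _ ⟨y, ⟨hy, hyq⟩, rfl⟩
    exact subset_closure ⟨h ▸ conj_mem_C.2 hy, hyq.conj g⟩
  exact hle ⟨x, hx, rfl⟩

include H hqm in
theorem Ap_card_cl {e : G} (he : QEl q e) (hec : e ∉ center G) :
    Nat.card (Ap q e) * q ^ cexp G q m * cl e = Nat.card G := by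
  rw [(Ap_eq H hqm he hec).2.2.2]
  exact (C e).card_mul_index

include H hqm in
/-- Non-central elements of the Sylow subgroup of a centralizer have larger `q'`-parts. -/
theorem Ap_mono {e f : G} (he : QEl q e) (hec : e ∉ center G) (hf : f ∈ Pp q e)
    (hfc : f ∉ center G) : Ap q e ≤ Ap q f ∧ cl f ≤ cl e ∧ (cl f = cl e → Ap q f = Ap q e) := by
  have hfq : QEl q f := (((Pp_eq H hqm he hec).2.2.2.1 f).1 hf).2
  have hle : Ap q e ≤ Ap q f := fun g hg => by
    refine ((Ap_eq H hqm hfq hfc).2.1 g).2 ⟨?_, (((Ap_eq H hqm he hec).2.1 g).1 hg).2⟩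
    exact mem_C.2 (mem_centralizer_iff.1 ((Ap_eq H hqm he hec).2.2.1 hg) f hf).symm
  refine ⟨hle, ?_, fun hcl => ?_⟩
  · have h1 := Ap_card_cl H hqm he hec
    have h2 := Ap_card_cl H hqm hfq hfc
    by_contra hlt
    push Not at hlt
    have h3 : Nat.card (Ap q e) * q ^ cexp G q m ≤ Nat.card (Ap q f) * q ^ cexp G q m :=
      Nat.mul_le_mul_right _ (card_le_of_le hle)
    have h4 : Nat.card (Ap q e) * q ^ cexp G q m * cl e < Nat.card (Ap q f) * q ^ cexp G q m * cl f :=
      lt_of_lt_of_le ((Nat.mul_lt_mul_left (Nat.mul_pos Nat.card_pos (pow_pos hq.out.pos _))).2 hlt)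
        (Nat.mul_le_mul_right _ h3)
    omega
  · have h1 := Ap_card_cl H hqm he hec
    have h2 := Ap_card_cl H hqm hfq hfc
    rw [hcl, ← h1] at h2
    have h5 := Nat.eq_of_mul_eq_mul_right (pow_pos hq.out.pos _)
      (Nat.eq_of_mul_eq_mul_right (cl_pos e) h2)
    exact (eq_of_le_of_card_ge hle h5.le).symm

end CfsgLib.ClassSizeMid
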