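import Cfsg.Agent.Lib.ClassSizeMid.Count
import Cfsg.Agent.Lib.Fusion.Abelian

/-!
A group with class sizes `1`, `m`, `m * n`, with coprime `m` and `n`, has a normal `q`-complement
for every prime `q` dividing `m`, and `m` is prime.
-/

set_option autoImplicit false
set_option linter.style.haveILetI false

namespace CfsgLib.ClassSizeMid

open Subgroup Cfsg.Agent.CoprimeTopClasses
open scoped commutatorElement Pointwise

variable {G : Type*} [Group G] [Finite G] {q : ℕ} [hq : Fact q.Prime]

theorem center_qel_mem {z : G} (hz : z ∈ center G) (hzq : QEl q z) (Q : Sylow q G) :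
    z ∈ (Q : Subgroup G) := by
  have h1 : IsPGroup q ((Q : Subgroup G) ⊔ zpowers z : Subgroup G) :=
    Q.isPGroup'.to_sup_of_normal_left' (qel_iff_zpowers.1 hzq) (zpowers_le.2
      (Coprime.mem_normalizer_of_conj_map_le fun y hy => by
        rw [← mem_center_iff.1 hz y, mul_inv_cancel_right]; exact hy))
  exact ((le_sup_right).trans (Q.is_maximal' h1 le_sup_left).le) (mem_zpowers z)

variable {m n : ℕ} (H : Hyp G m n) (hqm : q ∣ m)

include H hqm in
/-- The elements of order prime to `q` form a normal subgroup of `q`-power index. -/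
theorem exists_q_complement :
    ∃ K : Subgroup G, K.Normal ∧ (∀ g, g ∈ K ↔ CoEl q g) ∧ (Nat.card K).Coprime q ∧
      ∃ a, K.index = q ^ a := by
  let Q : Sylow q G := default
  have hL := LineData.mk' H hqm Q
  have hact := normalizer_acts_trivially H hqm hL
  set π := QuotientGroup.mk' (center G) with hπ
  have hsur : Function.Surjective π := QuotientGroup.mk'_surjective _
  set Pb := Q.mapSurjective hsur with hPb
  have hle : normalizer (Pb : Set (G ⧸ center G)) ≤ centralizer (Pb : Set (G ⧸ center G)) := by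
    intro xb hxb
    obtain ⟨x, rfl⟩ := hsur xb
    have hxN : x ∈ normalizer ((Q : Subgroup G) : Set G) := by
      refine Coprime.mem_normalizer_of_conj_map_le fun g hg => ?_
      have h1 : π x * π g * (π x)⁻¹ ∈ (Q : Subgroup G).map π :=
        (mem_normalizer_iff.1 hxb (π g)).1 (mem_map_of_mem π hg)
      rw [← map_inv, ← map_mul, ← map_mul] at h1
      obtain ⟨a, ha, hae⟩ := h1
      have h2 : a⁻¹ * (x * g * x⁻¹) ∈ center G := by
        refine (QuotientGroup.eq_one_iff _).1 ?_
        show π (a⁻¹ * (x * g * x⁻¹)) = 1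
        rw [map_mul, map_inv, hae, inv_mul_cancel]
      obtain ⟨i, hi⟩ := qel_of_mem Q.isPGroup' ha
      obtain ⟨j, hj⟩ := (qel_of_mem Q.isPGroup' hg).conj x
      have h3 : QEl q (a⁻¹ * (x * g * x⁻¹)) := by
        have hc : Commute a (a⁻¹ * (x * g * x⁻¹)) := mem_center_iff.1 h2 a
        have hc2 : Commute a⁻¹ (x * g * x⁻¹) := by
          have := (hc.inv_left).mul_right ((Commute.refl a⁻¹).inv_right)
          refine Commute.inv_left ?_
          show a * (x * g * x⁻¹) = x * g * x⁻¹ * a
          calc a * (x * g * x⁻¹) = a * (a * (a⁻¹ * (x * g * x⁻¹))) := by group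
            _ = a * ((a⁻¹ * (x * g * x⁻¹)) * a) := by rw [hc.eq]
            _ = x * g * x⁻¹ * a := by group
        obtain ⟨k, -, hk⟩ := (Nat.dvd_prime_pow hq.out).1
          ((hc2.orderOf_mul_dvd_lcm).trans (Nat.lcm_dvd
            (show orderOf a⁻¹ ∣ q ^ (i + j) by rw [orderOf_inv, hi]; exact pow_dvd_pow q (by omega))
            (show orderOf (x * g * x⁻¹) ∣ q ^ (i + j) by rw [hj]; exact pow_dvd_pow q (by omega))))
        exact ⟨k, hk⟩
      have h4 := mul_mem ha (center_qel_mem h2 h3 Q)
      rwa [mul_inv_cancel_left] at h4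
    refine mem_centralizer_iff.2 ?_
    rintro _ ⟨g, hg, rfl⟩
    have h5 : π (x * g * x⁻¹ * g⁻¹) = 1 := (QuotientGroup.eq_one_iff _).2 (hact x hxN g hg)
    rw [map_mul, map_mul, map_mul, map_inv, map_inv, mul_inv_eq_one, mul_inv_eq_iff_eq_mul] at h5
    exact h5.symm
  set Nb := (MonoidHom.transferSylow Pb hle).ker with hNb
  have hcompl : Nb.IsComplement' (Pb : Subgroup (G ⧸ center G)) :=
    MonoidHom.ker_transferSylow_isComplement' Pb hle
  have hNco : (Nat.card Nb).Coprime q := by
    rw [← hcompl.index_eq_card]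
    exact (hq.out.coprime_iff_not_dvd.2 Pb.not_dvd_index).symm
  obtain ⟨i, hi⟩ := Pb.isPGroup'.exists_card_eq
  have hNidx : Nb.index = q ^ i := by rw [hcompl.symm.index_eq_card, hi]
  set K₀ := Nb.comap π with hK₀
  haveI : K₀.Normal := (MonoidHom.normal_ker _).comap π
  -- the Sylow subgroup of `K₀` is central
  let S : Sylow q K₀ := default
  have hSc : ∀ u ∈ (S : Subgroup K₀), (u : G) ∈ center G := by
    intro u hu
    obtain ⟨k, hk⟩ := qel_of_mem S.isPGroup' hu
    refine central_of_pow_mem (k := Nat.card Nb) ?_ ?_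
    · rw [orderOf_coe, hk]; exact Nat.Coprime.pow_left _ hNco.symm
    · refine (QuotientGroup.eq_one_iff _).1 ?_
      show π ((u : G) ^ Nat.card Nb) = 1
      rw [map_pow]
      have : (⟨π u, u.2⟩ : Nb) ^ Nat.card Nb = 1 := pow_card_eq_one'
      exact congrArg Subtype.val this
  have hle' : normalizer (S : Set K₀) ≤ centralizer (S : Set K₀) := fun x _ =>
    mem_centralizer_iff.2 fun u hu => Subtype.ext (mem_center_iff.1 (hSc u hu) x).symm
  set B := (MonoidHom.transferSylow S hle').ker with hB
  have hBS : B.IsComplement' (S : Subgroup K₀) := MonoidHom.ker_transferSylow_isComplement' S hle'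
  have hBco : (Nat.card B).Coprime q := by
    rw [← hBS.index_eq_card]
    exact (hq.out.coprime_iff_not_dvd.2 S.not_dvd_index).symm
  obtain ⟨j, hj⟩ := S.isPGroup'.exists_card_eq
  have hBidx : B.index = q ^ j := by rw [hBS.symm.index_eq_card, hj]
  set K := B.map K₀.subtype with hK
  have hKcard : Nat.card K = Nat.card B := Coprime.card_map_subtype B
  have hKidx : K.index = q ^ (i + j) := by
    have hK₀i : K₀.index = q ^ i := by rw [hK₀, index_comap_of_surjective _ hsur, hNidx]
    have h1 := K.card_mul_index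
    rw [← K₀.card_mul_index, ← B.card_mul_index, hKcard, hBidx, hK₀i, mul_assoc] at h1
    rw [Nat.eq_of_mul_eq_mul_left Nat.card_pos h1, pow_add, mul_comm]
  have hiff : ∀ g, g ∈ K ↔ CoEl q g := by
    intro g
    refine ⟨fun hg => ?_, fun hg => ?_⟩
    · exact Nat.Coprime.coprime_dvd_left (orderOf_dvd_natCard K hg) (hKcard ▸ hBco)
    · have hg₀ : g ∈ K₀ := by
        obtain ⟨t, ht⟩ := exists_pow_eq_self_of_coprime (x := π g) (n := Nb.index) (by
          rw [hNidx]
          exact Nat.Coprime.pow_left _ (Nat.Coprime.coprime_dvd_left (orderOf_map_dvd π g) hg).symm)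
        show π g ∈ Nb
        exact ht ▸ pow_mem (Nb.pow_index_mem _) t
      refine ⟨⟨g, hg₀⟩, ?_, rfl⟩
      obtain ⟨t, ht⟩ := exists_pow_eq_self_of_coprime (x := (⟨g, hg₀⟩ : K₀)) (n := B.index) (by
        rw [hBidx, Subgroup.orderOf_mk]; exact Nat.Coprime.pow_left _ (Nat.Coprime.symm hg))
      exact ht ▸ pow_mem (B.pow_index_mem _) t
  exact ⟨K, ⟨fun g hg x => (hiff _).2 (((hiff g).1 hg).conj x)⟩, hiff, hKcard ▸ hBco, i + j, hKidx⟩

include H hqm in
/-- `m` is the prime `q`. -/
theorem m_eq : m = q := by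
  have hpow : ∃ a, m = q ^ a := by
    refine ⟨_, Nat.eq_prime_pow_of_unique_prime_dvd (by have := H.hm; omega) fun {s} hs hsm => ?_⟩
    by_contra hsq
    haveI : Fact s.Prime := ⟨hs⟩
    have hsco : ∀ {v : G}, QEl s v → CoEl q v := fun {v} ⟨k, hk⟩ => by
      rw [CoEl, hk]; exact Nat.Coprime.pow_left _ ((Nat.coprime_primes hs hq.out).2 hsq)
    obtain ⟨K, hKn, hiff, hKco, a, ha⟩ := exists_q_complement H hqm
    -- a Sylow `s`-subgroup lying in `K`
    let S : Sylow s G := default
    have hSK : (S : Subgroup G) ≤ K := fun u hu => (hiff u).2 (hsco (qel_of_mem S.isPGroup' hu))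
    haveI := hKn
    have hfr : normalizer ((S : Subgroup G) : Set G) ⊔ K = ⊤ := by
      have h1 := Sylow.normalizer_sup_eq_top' S hSK
      exact h1
    -- a full Sylow `q`-subgroup normalizing it
    have hidx : (normalizer ((S : Subgroup G) : Set G)).index ∣ Nat.card K := by
      have h1 := relIndex_sup_right (H := normalizer ((S : Subgroup G) : Set G)) (K := K)
      rw [hfr, relIndex_top_right] at h1
      set M := normalizer ((S : Subgroup G) : Set G)
      have h2 := relIndex_mul_relIndex ⊥ (M ⊓ K) M bot_le inf_le_left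
      rw [relIndex_bot_left, relIndex_bot_left, inf_comm, inf_relIndex_right, ← h1] at h2
      have h3 := M.card_mul_index
      rw [← K.card_mul_index, ← h2, inf_comm, mul_comm (Nat.card (M ⊓ K : Subgroup G)), mul_assoc,
        mul_comm (Nat.card K)] at h3
      exact ⟨Nat.card (M ⊓ K : Subgroup G), by
        rw [mul_comm M.index]; exact (Nat.eq_of_mul_eq_mul_left (Nat.pos_of_ne_zero
          Subgroup.index_ne_zero_of_finite) h3).symm⟩
    set M := normalizer ((S : Subgroup G) : Set G)
    let R : Sylow q M := default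
    have hRcard : Nat.card ((R : Subgroup M).map M.subtype) = Nat.card (default : Sylow q G) := by
      rw [Coprime.card_map_subtype, R.card_eq_multiplicity, Sylow.card_eq_multiplicity]
      congr 1
      rw [← M.card_mul_index, Nat.factorization_mul Nat.card_pos.ne' Subgroup.index_ne_zero_of_finite,
        Finsupp.add_apply, Nat.factorization_eq_zero_of_not_dvd
          (fun hd => hq.out.one_lt.ne' (Nat.dvd_one.1 (hKco.gcd_eq_one ▸ Nat.dvd_gcd (hd.trans hidx) dvd_rfl))),
        add_zero]
    obtain ⟨Q, hQle⟩ := (R.isPGroup'.map M.subtype).exists_le_sylow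
    have hQM : (Q : Subgroup G) ≤ M := by
      rw [← eq_of_le_of_card_ge hQle (by
        rw [hRcard, Sylow.card_eq_multiplicity, Sylow.card_eq_multiplicity])]
      exact map_subtype_le _
    have hLs := LineData.mk' (q := s) H hsm S
    have hacts := normalizer_acts_trivially (q := s) H hsm hLs
    obtain ⟨u, hu, huc⟩ : ∃ u ∈ (S : Subgroup G), u ∉ center G := by
      obtain ⟨w, hw, hwc⟩ := exists_noncentral_qel (q := s) H hsm
      obtain ⟨g, hg⟩ := exists_conj_mem_sylow hw S
      exact ⟨_, hg, fun hc => hwc (by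
        have := (inferInstance : (center G).Normal).conj_mem _ hc g⁻¹
        simpa [mul_assoc] using this)⟩
    have hcomm : ∀ x ∈ (Q : Subgroup G), x * u = u * x := fun x hx =>
      (commute_of_comm_mem_center (coprime_of_el (qel_of_mem Q.isPGroup' hx)
        (hsco (qel_of_mem S.isPGroup' hu))) (hacts x (hQM hx) u hu)).eq
    have hle : (Q : Subgroup G) ≤ C u := fun x hx => mem_C.2 (hcomm x hx)
    have hd : q ∣ (C u).index := by
      rcases cl_cases H huc with h | h
      · exact (show (C u).index = m from h).symm ▸ hqm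
      · exact (show (C u).index = m * n from h).symm ▸ hqm.mul_right n
    exact Q.not_dvd_index (hd.trans (index_dvd_of_le hle))
  obtain ⟨a, ha⟩ := hpow
  have h1 := a_eq_one H hqm
  rw [ha, hq.out.factorization_pow, Finsupp.single_eq_same] at h1
  rw [ha, h1, pow_one]

end CfsgLib.ClassSizeMid
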