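import Cfsg.Agent.Lib.ClassSizeMid.Lines

/-!
The normalizer of a Sylow `q`-subgroup acts trivially on it modulo the centre, for class sizes
`1`, `m`, `m * n` with coprime `m`, `n` and `q` dividing `m`: otherwise the centralizers of the
lines and their conjugates would be too few to cover the group.
-/

set_option autoImplicit false
set_option linter.style.haveILetI false

namespace CfsgLib.ClassSizeMid

open Subgroup Cfsg.Agent.CoprimeTopClasses
open scoped commutatorElement Pointwise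

variable {G : Type*} [Group G] [Finite G] {q : ℕ} [hq : Fact q.Prime]

omit hq in
theorem relIndex_ne' (A B : Subgroup G) : A.relIndex B ≠ 0 := Subgroup.index_ne_zero_of_finite

/-- The non-central elements having a conjugate that centralizes `P`. -/
def Cov (P : Subgroup G) : Set G :=
  {y | y ∉ center G ∧ ∃ g : G, g * y * g⁻¹ ∈ centralizer (P : Set G)}

omit hq in
theorem ncard_sdiff_center (H : Subgroup G) :
    ((H : Set G) \ (center G : Set G)).ncard + Nat.card (H ⊓ center G : Subgroup G) = Nat.card H := by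
  have h1 := Set.ncard_inter_add_ncard_sdiff_eq_ncard (H : Set G) (center G : Set G)
  rw [← Nat.card_coe_set_eq (s := (H : Set G) ∩ _), ← Nat.card_coe_set_eq (s := (H : Set G))] at h1
  rw [add_comm]
  exact h1

omit hq in
theorem cov_bound (P : Subgroup G) (hne : centralizer (P : Set G) ≠ ⊤) {k : ℕ}
    (hk : k ≤ (centralizer (P : Set G)).relIndex (normalizer (centralizer (P : Set G) : Set G))) :
    k * (Cov P).ncard + 2 * Nat.card (center G) ≤ Nat.card G := by
  set W := centralizer (P : Set G) with hW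
  set N := normalizer (W : Set G) with hN
  have hzW : center G ≤ W := center_le_centralizer _
  let f : (G ⧸ N) × ((W : Set G) \ (center G : Set G) : Set G) → G :=
    fun xw => xw.1.out * xw.2 * xw.1.out⁻¹
  have hsub : Cov P ⊆ Set.range f := by
    rintro y ⟨hy, g, hg⟩
    obtain ⟨⟨a, ha⟩, hna⟩ := QuotientGroup.mk_out_eq_mul N g⁻¹
    have hw : a⁻¹ * (g * y * g⁻¹) * a ∈ W := (mem_normalizer_iff''.1 ha _).1 hg
    have hwc : a⁻¹ * (g * y * g⁻¹) * a ∉ center G := fun hc => hy (by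
      have h1 := (inferInstance : (center G).Normal).conj_mem _ hc (g⁻¹ * a)
      rwa [show g⁻¹ * a * (a⁻¹ * (g * y * g⁻¹) * a) * (g⁻¹ * a)⁻¹ = y by group] at h1)
    refine ⟨((g⁻¹ : G), ⟨_, hw, hwc⟩), ?_⟩
    show (QuotientGroup.mk g⁻¹ : G ⧸ N).out * (a⁻¹ * (g * y * g⁻¹) * a) *
      (QuotientGroup.mk g⁻¹ : G ⧸ N).out⁻¹ = y
    rw [hna]
    push_cast
    group
  have h1 : (Cov P).ncard ≤ N.index * ((W : Set G) \ (center G : Set G)).ncard := by
    refine (Set.ncard_le_ncard hsub (Set.toFinite _)).trans ?_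
    rw [← Nat.card_coe_set_eq]
    refine (Finite.card_range_le f).trans_eq ?_
    rw [Nat.card_prod, Nat.card_coe_set_eq]
    rfl
  have h2 := ncard_sdiff_center W
  rw [inf_eq_right.2 hzW] at h2
  have h3 : W.relIndex N * N.index = W.index := relIndex_mul_index le_normalizer
  have h4 := W.card_mul_index
  have h5 : 2 ≤ W.index := W.one_lt_index_of_ne_top hne
  have h6 : k * (Cov P).ncard ≤ W.index * ((W : Set G) \ (center G : Set G)).ncard :=
    calc k * (Cov P).ncard ≤ W.relIndex N * (N.index * ((W : Set G) \ (center G : Set G)).ncard) :=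
          Nat.mul_le_mul hk h1
      _ = W.index * ((W : Set G) \ (center G : Set G)).ncard := by rw [← mul_assoc, h3]
  rw [← h4, ← h2]
  calc k * (Cov P).ncard + 2 * Nat.card (center G)
      ≤ W.index * ((W : Set G) \ (center G : Set G)).ncard + W.index * Nat.card (center G) :=
        Nat.add_le_add h6 (Nat.mul_le_mul_right _ h5)
    _ = _ := by ring

omit hq in
theorem cov_conj {P : Subgroup G} (n : G) : Cov P ⊆ Cov (P.map (MulAut.conj n).toMonoidHom) := by
  rintro y ⟨hy, g, hg⟩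
  refine ⟨hy, n * g, mem_centralizer_iff.2 ?_⟩
  rintro _ ⟨p, hp, rfl⟩
  have h1 := mem_centralizer_iff.1 hg p hp
  calc n * p * n⁻¹ * (n * g * y * (n * g)⁻¹) = n * (p * (g * y * g⁻¹)) * n⁻¹ := by group
    _ = n * ((g * y * g⁻¹) * p) * n⁻¹ := by rw [h1]
    _ = n * g * y * (n * g)⁻¹ * (n * p * n⁻¹) := by group

omit hq in
/-- Too few subgroups to cover the group. -/
theorem no_small_cover (reps : Finset (Subgroup G)) (k : ℕ) (hrk : reps.card ≤ k)
    (hne : ∀ P ∈ reps, centralizer (P : Set G) ≠ ⊤)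
    (hk : ∀ P ∈ reps,
      k ≤ (centralizer (P : Set G)).relIndex (normalizer (centralizer (P : Set G) : Set G)))
    (hcov : ∀ y : G, y ∉ center G → ∃ P ∈ reps, y ∈ Cov P)
    (hnab : ∃ y : G, y ∉ center G) : False := by
  classical
  have h1 : ((center G : Set G)ᶜ).ncard ≤ ∑ P ∈ reps, (Cov P).ncard := by
    refine (Set.ncard_le_ncard ?_ (Set.toFinite _)).trans (Finset.set_ncard_biUnion_le reps _)
    intro y hy
    obtain ⟨P, hP, hyP⟩ := hcov y hy
    exact Set.mem_biUnion hP hyP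
  have h2 : ((center G : Set G)ᶜ).ncard + Nat.card (center G) = Nat.card G := by
    have := Set.ncard_add_ncard_compl (center G : Set G)
    rw [← Nat.card_coe_set_eq (s := (center G : Set G))] at this
    rw [add_comm]; exact this
  have h3 : ∑ P ∈ reps, (k * (Cov P).ncard + 2 * Nat.card (center G)) ≤ reps.card * Nat.card G :=
    Finset.sum_le_card_nsmul _ _ _ fun P hP => cov_bound P (hne P hP) (hk P hP)
  rw [Finset.sum_add_distrib, ← Finset.mul_sum, Finset.sum_const, smul_eq_mul] at h3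
  have hz : 0 < Nat.card (center G) := Nat.card_pos
  have h4 := Nat.mul_le_mul_left k h1
  have hr : 0 < reps.card := by
    obtain ⟨y, hy⟩ := hnab
    obtain ⟨P, hP, -⟩ := hcov y hy
    exact Finset.card_pos.2 ⟨P, hP⟩
  obtain ⟨j, rfl⟩ := Nat.exists_eq_add_of_le hrk
  rw [← h2] at h3
  nlinarith

omit [Finite G] in
theorem Pp_map_conj (e g : G) :
    (Pp q e).map (MulAut.conj g).toMonoidHom = Pp q (g * e * g⁻¹) := by
  rw [Pp, MonoidHom.map_closure, Pp]
  congr 1
  ext x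
  constructor
  · rintro ⟨y, ⟨hy, hyq⟩, rfl⟩
    exact ⟨conj_mem_C.2 hy, hyq.conj g⟩
  · rintro ⟨hx, hxq⟩
    refine ⟨g⁻¹ * x * g, ⟨(conj_mem_C (g := g)).1 ?_, ?_⟩, by simp [mul_assoc]⟩
    · simpa [mul_assoc] using hx
    · simpa using hxq.conj g⁻¹

variable {m n : ℕ} (H : Hyp G m n) (hqm : q ∣ m)

include H hqm in
theorem centralizer_Pp {Q : Sylow q G} (L : LineData q m Q) {l : G} (hl : l ∈ (Q : Subgroup G))
    (hlc : l ∉ center G) : centralizer (Pp q l : Set G) = C l := by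
  obtain ⟨hPC, -, -, hmem, -⟩ := Pp_eq H hqm (qel_of_mem Q.isPGroup' hl) hlc
  have hll : l ∈ Pp q l := (hmem l).2 ⟨self_mem_C l, qel_of_mem Q.isPGroup' hl⟩
  refine le_antisymm (fun x hx => mem_C.2 (mem_centralizer_iff.1 hx l hll).symm) ?_
  rw [C_eq_sup H hqm (qel_of_mem Q.isPGroup' hl) hlc]
  exact sup_le (fun u hu => mem_centralizer_iff.2 fun v hv => L.abelian l hl hlc v hv u hu)
    (Ap_eq H hqm (qel_of_mem Q.isPGroup' hl) hlc).2.2.1

include H hqm in
theorem dvd_relIndex {Q : Sylow q G} {l : G} (hlc : l ∉ center G) {M : Subgroup G} (hQM : (Q : Subgroup G) ≤ M)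
    (hle : C l ≤ M) : q ∣ (C l).relIndex M := by
  have h1 := relIndex_mul_relIndex ⊥ (C l) M bot_le hle
  rw [relIndex_bot_left, relIndex_bot_left] at h1
  have h2 : q ^ cexp G q m * q ∣ Nat.card (C l) * (C l).relIndex M :=
    h1.symm ▸ card_sylow H hqm Q ▸ card_dvd_of_le hQM
  rw [← pow_succ] at h2
  have h3 := (hq.out.pow_dvd_iff_le_factorization
    (Nat.mul_ne_zero Nat.card_pos.ne' (relIndex_ne' _ _))).1 h2
  rw [Nat.factorization_mul Nat.card_pos.ne' (relIndex_ne' _ _), Finsupp.add_apply,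
    (fac_card H hqm hlc).1] at h3
  by_contra hd
  rw [Nat.factorization_eq_zero_of_not_dvd hd] at h3
  omega

include H hqm in
/-- `N(Q)` centralizes `Q` modulo the centre. -/
theorem normalizer_acts_trivially {Q : Sylow q G} (L : LineData q m Q) :
    ∀ x ∈ normalizer ((Q : Subgroup G) : Set G), ∀ g ∈ (Q : Subgroup G),
      x * g * x⁻¹ * g⁻¹ ∈ center G := by
  classical
  intro x hx g₀ hg₀
  by_contra hg₀c
  haveI := Fintype.ofFinite G
  set Qs := (Q : Subgroup G) with hQs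
  have hqel : ∀ {l}, l ∈ Qs → QEl q l := fun hl => qel_of_mem Q.isPGroup' hl
  have hself : ∀ {l}, l ∈ Qs → l ∉ center G → l ∈ Pp q l := fun {l} hl hlc =>
    ((Pp_eq H hqm (hqel hl) hlc).2.2.2.1 l).2 ⟨self_mem_C l, hqel hl⟩
  set S := Finset.univ.filter (fun l : G => l ∈ Qs ∧ l ∉ center G) with hS
  set Ls := S.image (Pp q) with hLs
  have hLmem : ∀ P ∈ Ls, ∃ l ∈ Qs, l ∉ center G ∧ Pp q l = P := by
    intro P hP
    obtain ⟨l, hl, rfl⟩ := Finset.mem_image.1 hP
    obtain ⟨h1, h2⟩ := (Finset.mem_filter.1 hl).2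
    exact ⟨l, h1, h2, rfl⟩
  -- there are `q + 1` lines
  set zq := Nat.card (Qs ⊓ center G : Subgroup G) with hzq
  have hcardS : S.card + zq = q ^ cexp G q m * q := by
    have h1 := ncard_sdiff_center Qs
    have h2 : ((Qs : Set G) \ (center G : Set G)).ncard = S.card := by
      rw [← Set.ncard_coe_finset]; congr 1; ext l; simp [hS]
    rw [h2, show Nat.card Qs = q ^ cexp G q m * q from L.cardQ] at h1
    exact h1
  have hfib : ∀ P ∈ Ls, (S.filter fun l => Pp q l = P).card + zq = q ^ cexp G q m := by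
    intro P hP
    obtain ⟨l, hl, hlc, rfl⟩ := hLmem P hP
    have h1 := ncard_sdiff_center (Pp q l)
    have h2 : Pp q l ⊓ center G = Qs ⊓ center G := by
      refine le_antisymm (inf_le_inf_right _ (L.le l hl hlc)) (le_inf ?_ inf_le_right)
      rw [L.span l hl hlc]; exact le_sup_right
    have h3 : ((Pp q l : Set G) \ (center G : Set G)).ncard = (S.filter fun u => Pp q u = Pp q l).card := by
      rw [← Set.ncard_coe_finset]; congr 1; ext u
      simp only [Set.mem_diff, SetLike.mem_coe, Finset.mem_filter, hS, Finset.mem_univ, true_and,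
        Finset.coe_filter, Set.mem_setOf_eq]
      exact ⟨fun ⟨h1, h2⟩ => ⟨⟨L.le l hl hlc h1, h2⟩, (L.line l hl hlc u h1 h2).1⟩,
        fun ⟨⟨h1, h2⟩, h3⟩ => ⟨h3 ▸ hself h1 h2, h2⟩⟩
    rw [h2, h3, (Pp_eq H hqm (hqel hl) hlc).2.2.1] at h1
    exact h1
  have hLcard : Ls.card = q + 1 := by
    have h1 := Finset.card_eq_sum_card_image (Pp q) S
    have h2 : ∑ P ∈ Ls, ((S.filter fun l => Pp q l = P).card + zq) = Ls.card * q ^ cexp G q m := by
      rw [Finset.sum_congr rfl hfib, Finset.sum_const, smul_eq_mul]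
    rw [Finset.sum_add_distrib, ← h1, Finset.sum_const, smul_eq_mul] at h2
    have hzpos : 0 < zq := Nat.card_pos
    have hqpow : q ^ cexp G q m = zq * q := L.cardZ.symm
    rw [hqpow] at hcardS h2
    obtain ⟨q', hq'⟩ := Nat.exists_eq_add_of_le hq.out.two_le
    generalize Ls.card = t at h2 ⊢
    generalize S.card = s at h2 hcardS
    have h5 : (t * (1 + q')) * zq = ((q + 1) * (1 + q')) * zq := by
      subst hq'; ring_nf at h2 hcardS ⊢; nlinarith
    exact Nat.eq_of_mul_eq_mul_right (by omega) (Nat.eq_of_mul_eq_mul_right hzpos h5)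
  -- facts about the centralizer of a line
  have hW : ∀ P ∈ Ls, centralizer (P : Set G) ≠ ⊤ ∧
      ∀ M : Subgroup G, Qs ≤ M → centralizer (P : Set G) ≤ M → q ∣ (centralizer (P : Set G)).relIndex M := by
    intro P hP
    obtain ⟨l, hl, hlc, rfl⟩ := hLmem P hP
    rw [centralizer_Pp H hqm L hl hlc]
    exact ⟨fun h => hlc (central_iff_C.2 h), fun M h1 h2 => dvd_relIndex H hqm (Q := Q) hlc h1 h2⟩
  have hQN : ∀ l ∈ Qs, l ∉ center G → Qs ≤ normalizer (C l : Set G) := fun l hl _ g hg =>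
    Coprime.mem_normalizer_of_conj_map_le fun y hy => C_conj_eq (L.comm g hg l hl) ▸ conj_mem_C.2 hy
  have hQN' : ∀ P ∈ Ls, Qs ≤ normalizer (centralizer (P : Set G) : Set G) := by
    intro P hP
    obtain ⟨l, hl, hlc, rfl⟩ := hLmem P hP
    rw [centralizer_Pp H hqm L hl hlc]
    exact hQN l hl hlc
  have hcov : ∀ y : G, y ∉ center G → ∃ P ∈ Ls, y ∈ Cov P := by
    intro y hy
    obtain ⟨g, l, hl, hlc, hg⟩ := L.cover y hy
    exact ⟨Pp q l, Finset.mem_image_of_mem _ (Finset.mem_filter.2 ⟨Finset.mem_univ _, hl, hlc⟩),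
      hy, g, (centralizer_Pp H hqm L hl hlc).symm ▸ hg⟩
  have hnab : ∃ y : G, y ∉ center G := ⟨x, fun hc => hg₀c (by
    rw [← mem_center_iff.1 hc g₀, mul_inv_cancel_right, mul_inv_cancel]; exact one_mem _)⟩
  have hxQ : ∀ l ∈ Qs, x * l * x⁻¹ ∈ Qs := fun l hl => (mem_normalizer_iff.1 hx l).1 hl
  have hconj_nc : ∀ {u : G} (a : G), u ∉ center G → a * u * a⁻¹ ∉ center G := fun {u} a hu hc => hu (by
    have := (inferInstance : (center G).Normal).conj_mem _ hc a⁻¹
    simpa [mul_assoc] using this)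
  by_cases hmove : ∃ l ∈ Qs, l ∉ center G ∧ Pp q (x * l * x⁻¹) ≠ Pp q l
  · obtain ⟨l, hl, hlc, hne⟩ := hmove
    have hP₀ : Pp q l ∈ Ls := Finset.mem_image_of_mem _ (Finset.mem_filter.2 ⟨Finset.mem_univ _, hl, hlc⟩)
    have hP₁ : Pp q (x * l * x⁻¹) ∈ Ls := Finset.mem_image_of_mem _
      (Finset.mem_filter.2 ⟨Finset.mem_univ _, hxQ l hl, hconj_nc x hlc⟩)
    refine no_small_cover (Ls.erase (Pp q l)) q ?_ (fun P hP => (hW P (Finset.mem_of_mem_erase hP)).1)
      (fun P hP => ?_) (fun y hy => ?_) hnab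
    · rw [Finset.card_erase_of_mem hP₀, hLcard]; rfl
    · have hP' := Finset.mem_of_mem_erase hP
      exact Nat.le_of_dvd (Nat.pos_of_ne_zero (relIndex_ne' _ _))
        ((hW P hP').2 _ (hQN' P hP') le_normalizer)
    · obtain ⟨P, hP, hyP⟩ := hcov y hy
      by_cases h : P = Pp q l
      · exact ⟨_, Finset.mem_erase.2 ⟨hne, hP₁⟩, Pp_map_conj (q := q) l x ▸ cov_conj x (h ▸ hyP)⟩
      · exact ⟨P, Finset.mem_erase.2 ⟨h, hP⟩, hyP⟩
  push Not at hmove
  -- no line is fixed elementwise modulo the centre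
  let Sx : Subgroup G := (centralizer ({QuotientGroup.mk' (center G) x} : Set _)).comap
    (QuotientGroup.mk' (center G))
  have hSx : ∀ u, u ∈ Sx ↔ x * u * x⁻¹ * u⁻¹ ∈ center G := fun u => by
    rw [mem_comap, mem_centralizer_singleton_iff]
    constructor
    · intro h
      refine (QuotientGroup.eq_one_iff _).1 ?_
      show (QuotientGroup.mk' (center G)) (x * u * x⁻¹ * u⁻¹) = 1
      rw [map_mul, map_mul, map_mul, map_inv, map_inv, ← h]; group
    · intro h
      have h1 : (QuotientGroup.mk' (center G)) (x * u * x⁻¹ * u⁻¹) = 1 := (QuotientGroup.eq_one_iff _).2 h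
      rw [map_mul, map_mul, map_mul, map_inv, map_inv, mul_inv_eq_one, mul_inv_eq_iff_eq_mul] at h1
      exact h1.symm
  have hnofix : ∀ l ∈ Qs, l ∉ center G → x * l * x⁻¹ * l⁻¹ ∉ center G := by
    intro l hl hlc hfix
    have hPS : Pp q l ≤ Sx := by
      rw [L.span l hl hlc]
      refine sup_le (zpowers_le.2 ((hSx l).2 hfix)) fun z hz => (hSx z).2 ?_
      rw [mem_center_iff.1 (Subgroup.mem_inf.1 hz).2 x, mul_inv_cancel_right, mul_inv_cancel]
      exact one_mem _
    have hgl : g₀ ∉ Pp q l := fun h => hg₀c ((hSx g₀).1 (hPS h))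
    have hgc : g₀ ∉ center G := fun h => hg₀c (by
      rw [mem_center_iff.1 h x, mul_inv_cancel_right, mul_inv_cancel]; exact one_mem _)
    have hlg : l * g₀ ∈ Qs := mul_mem hl hg₀
    have hzl : x * l * x⁻¹ * l⁻¹ ∈ Pp q l := by
      rw [L.span l hl hlc]
      exact mem_sup_right (Subgroup.mem_inf.2 ⟨mul_mem (hxQ l hl) (inv_mem hl), hfix⟩)
    have hlgc : l * g₀ ∉ center G := by
      intro h
      refine hgl ?_
      rw [show g₀ = l⁻¹ * (l * g₀) by group, L.span l hl hlc]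
      exact mul_mem (mem_sup_left (inv_mem (mem_zpowers l))) (mem_sup_right (Subgroup.mem_inf.2 ⟨hlg, h⟩))
    set d := x * g₀ * x⁻¹ * g₀⁻¹ with hd
    have hdQ : d ∈ Qs := mul_mem (hxQ g₀ hg₀) (inv_mem hg₀)
    have hdg : d ∈ Pp q g₀ := mul_mem (hmove g₀ hg₀ hgc ▸ hself (hxQ g₀ hg₀) (hconj_nc x hgc))
      (inv_mem (hself hg₀ hgc))
    have h1 : x * (l * g₀) * x⁻¹ * (l * g₀)⁻¹ ∈ Pp q (l * g₀) :=
      mul_mem (hmove _ hlg hlgc ▸ hself (hxQ _ hlg) (hconj_nc x hlgc)) (inv_mem (hself hlg hlgc))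
    have h2 : x * l * x⁻¹ * l⁻¹ * (l * d * l⁻¹ * d⁻¹) ∈ Qs ⊓ center G :=
      Subgroup.mem_inf.2 ⟨mul_mem (mul_mem (hxQ l hl) (inv_mem hl))
        (mul_mem (mul_mem (mul_mem hl hdQ) (inv_mem hl)) (inv_mem hdQ)),
        mul_mem hfix (L.comm l hl d hdQ)⟩
    have h3 : d ∈ Pp q (l * g₀) := by
      have h4 : Qs ⊓ center G ≤ Pp q (l * g₀) := by rw [L.span _ hlg hlgc]; exact le_sup_right
      have h5 := mul_mem (inv_mem (h4 h2)) h1
      convert h5 using 1
      rw [hd]; group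
    have e1 := (L.line g₀ hg₀ hgc d hdg hg₀c).1
    have e2 := (L.line (l * g₀) hlg hlgc d h3 hg₀c).1
    have h6 : l ∈ Pp q g₀ := by
      have h7 : l * g₀ ∈ Pp q g₀ := e1 ▸ e2.symm ▸ hself hlg hlgc
      have := mul_mem h7 (inv_mem (hself hg₀ hgc))
      rwa [mul_inv_cancel_right] at this
    exact hgl ((L.line g₀ hg₀ hgc l h6 hlc).1.symm ▸ hself hg₀ hgc)
  refine no_small_cover Ls (2 * q) (by rw [hLcard]; have := hq.out.two_le; omega)
    (fun P hP => (hW P hP).1) (fun P hP => ?_) hcov hnab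
  obtain ⟨l, hl, hlc, hPl⟩ := hLmem P hP
  set W := centralizer (P : Set G) with hWdef
  have hWl : W = C l := by rw [hWdef, ← hPl]; exact centralizer_Pp H hqm L hl hlc
  set N := normalizer (W : Set G) with hNdef
  have hxN : x ∈ N := by
    rw [hNdef, hWl]
    refine Coprime.mem_normalizer_of_conj_map_le fun y hy => ?_
    have h1 : x * l * x⁻¹ ∈ Pp q l := hmove l hl hlc ▸ hself (hxQ l hl) (hconj_nc x hlc)
    exact (L.line l hl hlc _ h1 (hconj_nc x hlc)).2 ▸ conj_mem_C.2 hy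
  obtain ⟨j, hj⟩ := (hW P hP).2 N (hQN' P hP) le_normalizer
  have hj0 : j ≠ 0 := by rintro rfl; exact (relIndex_ne' _ _) (hj.trans (mul_zero q))
  have hj1 : j ≠ 1 := by
    rintro rfl
    rw [mul_one] at hj
    have hWQ : W ⊔ Qs ≤ N := sup_le le_normalizer (hQN' P hP)
    obtain ⟨i, hi⟩ := (hW P hP).2 (W ⊔ Qs) le_sup_right le_sup_left
    have h1 := relIndex_mul_relIndex W (W ⊔ Qs) N le_sup_left hWQ
    rw [hj, hi, mul_assoc] at h1
    have h2 : i * (W ⊔ Qs).relIndex N = 1 := Nat.eq_of_mul_eq_mul_left hq.out.pos (h1.trans (mul_one q).symm)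
    have h3 : N ≤ W ⊔ Qs := relIndex_eq_one.1 (Nat.eq_one_of_mul_eq_one_left h2)
    have h4 : x ∈ ((W ⊔ Qs : Subgroup G) : Set G) := h3 hxN
    rw [coe_mul_of_right_le_normalizer_left _ _ (hQN' P hP)] at h4
    obtain ⟨w, hw, u, hu, hwu⟩ := h4
    refine hnofix l hl hlc ?_
    have hw' : w * l = l * w := mem_C.1 (hWl ▸ hw)
    have hz := L.comm u hu l hl
    rw [← hwu]
    show w * u * l * (w * u)⁻¹ * l⁻¹ ∈ center G
    rw [show w * u * l * (w * u)⁻¹ * l⁻¹ = w * (u * l * u⁻¹ * l⁻¹) * (l * w⁻¹ * l⁻¹) by group,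
      mem_center_iff.1 hz w, mul_assoc,
      show w * (l * w⁻¹ * l⁻¹) = (w * l) * w⁻¹ * l⁻¹ by group, hw', mul_inv_cancel_right,
      mul_inv_cancel, mul_one]
    exact hz
  rw [hj, mul_comm]
  exact Nat.mul_le_mul_left q (by omega)

end CfsgLib.ClassSizeMid
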