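import Cfsg.Agent.Lib.ClassSizeMid.Complement

/-!
Structure of the groups with class sizes `1`, `m`, `m * n`, where `m`, `n` are coprime: `m` is a
prime `q` dividing `n - 1`, the elements in classes of size at most `q` form an abelian subgroup of
index `q`, and the Sylow `q`-subgroups have derived subgroups of order `q`.
-/

set_option autoImplicit false
set_option linter.style.haveILetI false

namespace CfsgLib.ClassSizeMid

open Subgroup Cfsg.Agent.CoprimeTopClasses
open scoped commutatorElement Pointwise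

variable {G : Type*} [Group G] [Finite G] {q : ℕ} [hq : Fact q.Prime]
variable {m n : ℕ} (H : Hyp G m n) (hqm : q ∣ m)

omit [Finite G] hq in
theorem conj_nc {u : G} (a : G) (hu : u ∉ center G) : a * u * a⁻¹ ∉ center G := fun hc => hu (by
  have := (inferInstance : (center G).Normal).conj_mem _ hc a⁻¹
  simpa [mul_assoc] using this)

include H hqm in
/-- `q'`-elements centralizing an element of a class of size `m * n` are central, if this holds for
one such element. -/
theorem coel_central_of_MN {e : G} (he : QEl q e) (hcle : cl e = m * n) (hA : Ap q e ≤ center G)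
    {y : G} (hy : cl y = m * n) {g : G} (hg : g ∈ C y) (hgc : CoEl q g) : g ∈ center G := by
  have hec : e ∉ center G := not_central_of_cl H (Or.inr hcle)
  have h1 : Nat.card (C y) = Nat.card (Ap q e) * q ^ cexp G q m := by
    have h2 := (C y).card_mul_index
    rw [show (C y).index = m * n from hy, ← Ap_card_cl H hqm he hec, hcle] at h2
    exact Nat.eq_of_mul_eq_mul_right (by
      have := H.hm; have := H.hn; exact Nat.mul_pos (by omega) (by omega)) h2
  have hAy : Ap q e ≤ C y := hA.trans (center_le_C y)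
  haveI : ((Ap q e).subgroupOf (C y)).Normal := ⟨fun a ha b => by
    rw [mem_subgroupOf] at ha ⊢
    push_cast
    rw [mem_center_iff.1 (hA ha) b, mul_inv_cancel_right]; exact ha⟩
  have h2 : ((Ap q e).subgroupOf (C y)).index = q ^ cexp G q m := by
    have h3 := ((Ap q e).subgroupOf (C y)).card_mul_index
    rw [Nat.card_congr (subgroupOfEquivOfLe hAy).toEquiv, h1] at h3
    exact Nat.eq_of_mul_eq_mul_left Nat.card_pos h3
  have h4 : (⟨g, hg⟩ : C y) ^ ((Ap q e).subgroupOf (C y)).index ∈ (Ap q e).subgroupOf (C y) :=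
    Subgroup.pow_index_mem _ _
  rw [h2, mem_subgroupOf] at h4
  push_cast at h4
  exact central_of_pow_mem (Nat.Coprime.pow_right _ hgc) (hA h4)

include H hqm in
/-- An element of the Sylow subgroup commuting with a non-central element of `Ap q l` is on the
line of `l`. -/
theorem mem_line {Q : Sylow q G} (L : LineData q m Q) {l a u : G} (hl : l ∈ (Q : Subgroup G))
    (hlc : l ∉ center G) (ha : a ∈ Ap q l) (hac : a ∉ center G) (hu : u ∈ (Q : Subgroup G))
    (hua : u ∈ C a) : u ∈ Pp q l := by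
  have hlq : QEl q l := qel_of_mem Q.isPGroup' hl
  obtain ⟨-, hP, hc, -⟩ := Pp_eq H hqm hlq hlc
  have hPa : Pp q l ≤ C a := fun p hp =>
    mem_C.2 (mem_centralizer_iff.1 ((Ap_eq H hqm hlq hlc).2.2.1 ha) p hp)
  exact le_of_normalizes H hqm hac hP hPa hc (qel_iff_zpowers.1 (qel_of_mem Q.isPGroup' hu))
    (zpowers_le.2 hua) (zpowers_le.2 (Pp_conj_eq H hqm (C_conj_eq (L.comm u hu l hl)))) (mem_zpowers u)

include H hqm in
theorem exists_off_line {Q : Sylow q G} {l : G} (L : LineData q m Q) (hl : l ∈ (Q : Subgroup G))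
    (hlc : l ∉ center G) : ∃ u ∈ (Q : Subgroup G), u ∉ Pp q l ∧ u ∉ center G := by
  obtain ⟨u, hu, hun⟩ := SetLike.not_le_iff_exists.1 (fun h : (Q : Subgroup G) ≤ Pp q l => by
    have h1 : q ^ cexp G q m * q ≤ q ^ cexp G q m := by
      rw [← L.cardQ, ← (Pp_eq H hqm (qel_of_mem Q.isPGroup' hl) hlc).2.2.1]; exact card_le_of_le h
    have := Nat.le_of_mul_le_mul_left (h1.trans_eq (mul_one _).symm) (pow_pos hq.out.pos _)
    exact absurd this (not_le.2 hq.out.one_lt))
  refine ⟨u, hu, hun, fun hc => hun ?_⟩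
  rw [L.span l hl hlc]
  exact mem_sup_right (Subgroup.mem_inf.2 ⟨hu, hc⟩)

include H hqm in
theorem le_C_of_cl {K : Subgroup G} (hKn : K.Normal) (hKco : (Nat.card K).Coprime q) {a : ℕ}
    (hKi : K.index = q ^ a) {y : G} (hy : cl y = q) : K ≤ C y := by
  haveI := hKn
  obtain ⟨b, -, hb⟩ := (Nat.dvd_prime_pow hq.out).1 (hKi ▸ relIndex_dvd_index_of_normal K (C y))
  have h1 := relIndex_mul_relIndex ⊥ (K ⊓ C y) (C y) bot_le inf_le_right
  rw [relIndex_bot_left, relIndex_bot_left, inf_relIndex_right, hb] at h1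
  have h2 := (C y).card_mul_index
  rw [show (C y).index = q from hy, ← K.card_mul_index, hKi, ← h1, mul_assoc] at h2
  have h3 : Nat.card K ∣ Nat.card (K ⊓ C y : Subgroup G) :=
    (Nat.Coprime.mul_right (hKco.pow_right b) hKco).dvd_of_dvd_mul_right
      (h2.symm ▸ dvd_mul_right _ _)
  have h4 : K ⊓ C y = K := eq_of_le_of_card_ge inf_le_left (Nat.le_of_dvd Nat.card_pos h3)
  exact h4 ▸ inf_le_right

theorem sylow_sup_eq_top {K : Subgroup G} {a : ℕ} (hKn : K.Normal) (hKco : (Nat.card K).Coprime q)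
    (hKi : K.index = q ^ a) (Q : Sylow q G) : (Q : Subgroup G) ⊔ K = ⊤ := by
  refine eq_top_of_card_eq _ (Nat.dvd_antisymm (card_subgroup_dvd_card _) ?_)
  rw [← K.card_mul_index, hKi]
  refine Nat.Coprime.mul_dvd_of_dvd_of_dvd (hKco.pow_right a) (card_dvd_of_le le_sup_right) ?_
  refine dvd_trans ?_ (card_dvd_of_le (le_sup_left : (Q : Subgroup G) ≤ _))
  rw [Q.card_eq_multiplicity]
  exact pow_dvd_pow q ((hq.out.pow_dvd_iff_le_factorization Nat.card_pos.ne').1
    (hKi ▸ K.index_dvd_card))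

theorem exists_conj_by_K {K : Subgroup G} {a : ℕ} (hKn : K.Normal) (hKco : (Nat.card K).Coprime q)
    (hKi : K.index = q ^ a) {u : G} (hu : QEl q u) (Q : Sylow q G) :
    ∃ k ∈ K, k * u * k⁻¹ ∈ (Q : Subgroup G) := by
  obtain ⟨g, hg⟩ := exists_conj_mem_sylow hu Q
  haveI := hKn
  obtain ⟨x, hx, k, hk, rfl⟩ := mem_sup_of_normal_right.1
    ((sylow_sup_eq_top hKn hKco hKi Q).symm ▸ mem_top g)
  refine ⟨k, hk, ?_⟩
  rw [show k * u * k⁻¹ = x⁻¹ * (x * k * u * (x * k)⁻¹) * x by group]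
  exact mul_mem (mul_mem (inv_mem hx) hg) hx

include H hqm in
/-- Some `q`-element lies in a class of size `m`. -/
theorem exists_qel_cl_m : ∃ x : G, QEl q x ∧ cl x = m := by
  by_contra hT
  push Not at hT
  obtain ⟨K, hKn, hiff, hKco, a, hKi⟩ := exists_q_complement H hqm
  have hmq := m_eq H hqm
  let Q : Sylow q G := default
  have L := LineData.mk' H hqm Q
  have hqel : ∀ {u}, u ∈ (Q : Subgroup G) → QEl q u := fun hu => qel_of_mem Q.isPGroup' hu
  have hall : ∀ u : G, QEl q u → u ∉ center G → cl u = m * n := fun u hu huc =>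
    (cl_cases H huc).resolve_left (hT u hu)
  obtain ⟨y, hy⟩ := H.exm
  obtain ⟨y₁, h1, y₂, h2, e', hy1, hy2⟩ := exists_parts q y
  have hy2c : y₂ ∉ center G := fun h => hT y₁ hy1 (by
    rw [← hy, ← e']; exact congrArg Subgroup.index (C_mul_center h).symm)
  have hcly₂ : cl y₂ = m := (cl_cases H hy2c).resolve_right fun h => by
    have h3 := Nat.le_of_dvd (cl_pos y) (index_dvd_of_le (zpow_C h2))
    change cl y₂ ≤ cl y at h3
    rw [h, hy] at h3
    have := H.hm; have := H.hn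
    nlinarith
  obtain ⟨g, l, hl, hlc, hgl⟩ := L.cover y₂ hy2c
  set v := g * y₂ * g⁻¹ with hv
  have hvc : v ∉ center G := conj_nc g hy2c
  have hvco : CoEl q v := hy2.conj g
  have hvA : v ∈ Ap q l := ((Ap_eq H hqm (hqel hl) hlc).2.1 v).2 ⟨hgl, hvco⟩
  have hKv : K ≤ C v := le_C_of_cl H hqm hKn hKco hKi ((cl_conj y₂ g).trans (hcly₂.trans hmq))
  obtain ⟨l', hl', hl'n, hl'c⟩ := exists_off_line H hqm L hl hlc
  obtain ⟨w, hwA, hwc⟩ := SetLike.not_le_iff_exists.1 (Ap_noncentral_of_cl_eq H hqm (hqel hl') hl'c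
    (hqel hl) hlc ((hall l' (hqel hl') hl'c).trans (hall l (hqel hl) hlc).symm)
    (fun h => hvc (h hvA)))
  obtain ⟨hwC, hwco⟩ := ((Ap_eq H hqm (hqel hl') hl'c).2.1 w).1 hwA
  have hnotv : ¬ l' ∈ C v := fun h => hl'n (mem_line H hqm L hl hlc hvA hvc hl' h)
  have hKw : K ≤ C w := by
    refine le_C_of_cl H hqm hKn hKco hKi (((cl_cases H hwc).resolve_right fun hclw => ?_).trans hmq)
    have hcomm : Commute l' w := (show Commute w l' from mem_C.1 hwC).symm
    have hC := C_mul_eq_inf hcomm (coprime_of_el (hqel hl') hwco)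
    have hnc : l' * w ∉ center G := fun h => by
      rw [central_iff_C, hC] at h
      exact hwc (central_iff_C.2 (top_le_iff.1 (h ▸ inf_le_right)))
    have hcl' := hall l' (hqel hl') hl'c
    have hle : C (l' * w) ≤ C l' := hC ▸ inf_le_left
    have h5 : cl (l' * w) = m * n := (cl_cases H hnc).resolve_left fun h => by
      have h3 := Nat.le_of_dvd (cl_pos _) (index_dvd_of_le hle)
      change cl l' ≤ cl (l' * w) at h3
      rw [h, hcl'] at h3
      have := H.hm; have := H.hn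
      nlinarith
    have h6 : C (l' * w) = C l' := eq_of_le_of_cl hle (h5.trans hcl'.symm)
    have h7 : C (l' * w) = C w := eq_of_le_of_cl (hC ▸ inf_le_right) (h5.trans hclw.symm)
    have h8 : v ∈ C w := mem_C_symm (hKv ((hiff w).2 hwco))
    exact hnotv (mem_C_symm ((h6.symm.trans h7) ▸ h8))
  have hvwc : v * w ∉ center G := fun hc => by
    have h1 : C v = C w⁻¹ := by
      rw [show v = w⁻¹ * (v * w) by
        rw [mem_center_iff.1 hc w⁻¹, mul_inv_cancel_right]]
      exact C_mul_center hc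
    exact hnotv (h1 ▸ mem_C.2 (show Commute l' w⁻¹ from
      ((show Commute w l' from mem_C.1 hwC).symm).inv_right).eq)
  obtain ⟨u₀, hu₀, hu₀q, hu₀c⟩ := exists_qel H hqm hvwc
  obtain ⟨k, hk, hku⟩ := exists_conj_by_K hKn hKco hKi hu₀q Q
  set u := k * u₀ * k⁻¹ with hu
  have huc : u ∉ center G := conj_nc k hu₀c
  have huvw : u ∈ C (v * w) := by
    have h1 : k ∈ C (v * w) := C_inf_le_mul ⟨hKv hk, hKw hk⟩
    exact mul_mem (mul_mem h1 hu₀) (inv_mem h1)
  set a' := u * v * u⁻¹ * v⁻¹ with ha'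
  set b' := u * w * u⁻¹ * w⁻¹ with hb'
  have hnl : ∀ {x}, x ∈ (Q : Subgroup G) → C (u * x * u⁻¹) = C x := fun {x} hx =>
    C_conj_eq (L.comm u hku x hx)
  have ha'A : a' ∈ Ap q l := mul_mem (((Ap_eq H hqm (hqel hl) hlc).2.1 _).2
    ⟨hnl hl ▸ conj_mem_C.2 hgl, hvco.conj u⟩) (inv_mem hvA)
  have hb'A : b' ∈ Ap q l' := mul_mem (((Ap_eq H hqm (hqel hl') hl'c).2.1 _).2
    ⟨hnl hl' ▸ conj_mem_C.2 hwC, hwco.conj u⟩) (inv_mem hwA)
  have hab : a' = b'⁻¹ := by
    have hb'K : b' ∈ K := (hiff _).2 ((((Ap_eq H hqm (hqel hl') hl'c).2.1 _).1 hb'A).2)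
    have h1 : v * b' = b' * v := (mem_C.1 (hKv hb'K)).symm
    have h2 : u * (v * w) * u⁻¹ = v * w := by rw [mem_C.1 huvw, mul_inv_cancel_right]
    have h3 : a' * b' * (v * w) = v * w := by
      calc a' * b' * (v * w) = a' * (b' * v) * w := by group
        _ = a' * (v * b') * w := by rw [h1]
        _ = u * (v * w) * u⁻¹ := by rw [ha', hb']; group
        _ = v * w := h2
    exact eq_inv_of_mul_eq_one_left (mul_eq_right.1 h3)
  have ha'c : a' ∈ center G := by
    by_contra hc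
    refine hl'n (mem_line H hqm L hl hlc ha'A hc hl' ?_)
    have h1 : a' ∈ Ap q l' := hab ▸ inv_mem hb'A
    exact mem_C_symm (((Ap_eq H hqm (hqel hl') hl'c).2.1 _).1 h1).1
  have hb'c : b' ∈ center G := by
    have := inv_mem ha'c; rwa [hab, inv_inv] at this
  have h1 := commute_of_comm_mem_center (coprime_of_el (hqel hku) hvco) ha'c
  have h2 := commute_of_comm_mem_center (coprime_of_el (hqel hku) hwco) hb'c
  have e1 := (L.line l hl hlc u (mem_line H hqm L hl hlc hvA hvc hku (mem_C.2 h1.eq)) huc).1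
  have e2 := (L.line l' hl' hl'c u (mem_line H hqm L hl' hl'c hwA hwc hku (mem_C.2 h2.eq)) huc).1
  refine hl'n ?_
  rw [← e1, e2]
  exact ((Pp_eq H hqm (hqel hl') hl'c).2.2.2.1 l').2 ⟨self_mem_C l', hqel hl'⟩

include H hqm in
theorem exists_line_cl_m (Q : Sylow q G) : ∃ l ∈ (Q : Subgroup G), l ∉ center G ∧ cl l = m := by
  obtain ⟨x, hx, hclx⟩ := exists_qel_cl_m H hqm
  obtain ⟨g, hg⟩ := exists_conj_mem_sylow hx Q
  exact ⟨_, hg, conj_nc g (not_central_of_cl H (Or.inl hclx)), (cl_conj x g).trans hclx⟩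

include H hqm in
/-- The derived subgroup of a Sylow `q`-subgroup has order `q`. -/
theorem card_commutator_sylow (P : Sylow q G) : Nat.card (commutator (P : Subgroup G)) = q := by
  have L := LineData.mk' H hqm P
  obtain ⟨l, hl, hlc, -⟩ := exists_line_cl_m H hqm P
  obtain ⟨g, hg, hgn, hgc⟩ := exists_off_line H hqm L hl hlc
  obtain ⟨-, -, hlcard, hlmem, -⟩ := Pp_eq H hqm (qel_of_mem P.isPGroup' hl) hlc
  set z := g * l * g⁻¹ * l⁻¹ with hz
  have hzc : z ∈ center G := L.comm g hg l hl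
  have hz1 : z ≠ 1 := fun h => by
    rw [hz, mul_inv_eq_one, mul_inv_eq_iff_eq_mul] at h
    exact hgn ((hlmem g).2 ⟨mem_C.2 h, qel_of_mem P.isPGroup' hg⟩)
  have hzq : z ^ q = 1 := by
    have hzl : g * l * g⁻¹ = z * l := by rw [hz]; group
    have h1 : (g * l * g⁻¹) ^ q = l ^ q := by
      rw [conj_pow, mem_center_iff.1 (L.pow l hl) g, mul_inv_cancel_right]
    rw [hzl, (show Commute z l from (mem_center_iff.1 hzc l).symm).mul_pow, mul_eq_right] at h1
    exact h1
  set Z := zpowers z with hZ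
  have hZc : Z ≤ center G := zpowers_le.2 hzc
  haveI : Z.Normal := ⟨fun w hw x => by
    rw [mem_center_iff.1 (hZc hw) x, mul_inv_cancel_right]; exact hw⟩
  set π := QuotientGroup.mk' Z with hπ
  set T : Set G := {g, l} ∪ ((((P : Subgroup G) ⊓ center G : Subgroup G)) : Set G) with hT
  have hgen : (P : Subgroup G) ≤ closure T := by
    have hTP : closure T ≤ (P : Subgroup G) := by
      rw [closure_le]
      rintro x ((rfl | rfl) | hx)
      exacts [hg, hl, (Subgroup.mem_inf.1 hx).1]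
    have hPT : Pp q l ≤ closure T := by
      rw [L.span l hl hlc]
      exact sup_le (zpowers_le.2 (subset_closure (Or.inl (Or.inr rfl))))
        fun x hx => subset_closure (Or.inr hx)
    refine (eq_of_le_of_card_ge hTP ?_).ge
    obtain ⟨i, hi⟩ := (P.isPGroup'.to_le hTP).exists_card_eq
    have h1 : q ^ cexp G q m < q ^ i := by
      rw [← hi, ← hlcard]
      refine lt_of_le_of_ne (card_le_of_le hPT) fun h => hgn ?_
      rw [eq_of_le_of_card_ge hPT h.ge]
      exact subset_closure (Or.inl (Or.inl rfl))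
    rw [L.cardQ, hi, ← pow_succ]
    exact Nat.pow_le_pow_right hq.out.pos ((Nat.pow_lt_pow_iff_right hq.out.one_lt).1 h1)
  have hgl : π g * π l = π l * π g := by
    rw [← mul_inv_eq_one, mul_inv_rev, ← map_mul, ← map_inv, ← map_inv, ← map_mul, ← map_mul]
    refine (QuotientGroup.eq_one_iff _).2 ?_
    rw [show g * l * (g⁻¹ * l⁻¹) = z by rw [hz]; group]
    exact mem_zpowers z
  have hcen : ∀ x ∈ T, ∀ y ∈ T, π x * π y = π y * π x := by
    have hZq : ∀ x ∈ ((P : Subgroup G) ⊓ center G : Subgroup G), ∀ y, π x * π y = π y * π x :=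
      fun x hx y => by rw [← map_mul, ← map_mul, mem_center_iff.1 (Subgroup.mem_inf.1 hx).2 y]
    rintro x ((rfl | rfl) | hx) y ((rfl | rfl) | hy)
    all_goals first
      | exact hZq _ hx _
      | exact (hZq _ hy _).symm
      | exact hgl
      | exact hgl.symm
      | rfl
  have hle1 : closure T ≤ (centralizer (π '' T)).comap π := by
    rw [closure_le]
    intro x hx
    refine mem_centralizer_iff.2 ?_
    rintro _ ⟨y, hy, rfl⟩
    exact hcen y hy x hx
  have hle2 : closure T ≤ (centralizer ((closure T).map π : Set _)).comap π := by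
    rw [closure_le]
    intro x hx
    refine mem_centralizer_iff.2 ?_
    rintro _ ⟨y, hy, rfl⟩
    exact (mem_centralizer_iff.1 (hle1 hy) (π x) ⟨x, hx, rfl⟩).symm
  have hcomm : ⁅(P : Subgroup G), (P : Subgroup G)⁆ ≤ Z := by
    rw [commutator_le]
    intro x hx y hy
    refine (QuotientGroup.eq_one_iff _).1 ?_
    show π ⁅x, y⁆ = 1
    rw [map_commutatorElement, commutatorElement_eq_one_iff_mul_comm]
    exact (mem_centralizer_iff.1 (hle2 (hgen hx)) (π y) (mem_map_of_mem π (hgen hy))).symm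
  have hmem : z ∈ ⁅(P : Subgroup G), (P : Subgroup G)⁆ := by
    rw [hz]; exact commutator_mem_commutator hg hl
  have hEq : ⁅(P : Subgroup G), (P : Subgroup G)⁆ = Z := le_antisymm hcomm (zpowers_le.2 hmem)
  rw [← Coprime.card_map_subtype, map_subtype_commutator, hEq, hZ, Nat.card_zpowers]
  exact orderOf_eq_prime hzq hz1

include H hqm in
/-- The main structure theorem. -/
theorem structure_theorem :
    q ∣ n - 1 ∧
    (∃ M : Subgroup G, M.Normal ∧ (M : Set G) = {x : G | cl x = 1 ∨ cl x = m} ∧ M.index = m ∧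
      IsMulCommutative M) ∧
    ∃ N : Subgroup G, N.Normal ∧ (Nat.card N).Coprime m ∧ ∃ a : ℕ, N.index = m ^ a := by
  obtain ⟨K, hKn, hiff, hKco, a, hKi⟩ := exists_q_complement H hqm
  have hmq := m_eq H hqm
  let Q : Sylow q G := default
  have L := LineData.mk' H hqm Q
  have hqel : ∀ {u}, u ∈ (Q : Subgroup G) → QEl q u := fun hu => qel_of_mem Q.isPGroup' hu
  obtain ⟨l₀, hl₀, hl₀c, hcl₀⟩ := exists_line_cl_m H hqm Q
  have hKl₀ : K ≤ C l₀ := le_C_of_cl H hqm hKn hKco hKi (hcl₀.trans hmq)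
  have hAl₀ : Ap q l₀ = K := le_antisymm
    (fun x hx => (hiff x).2 ((((Ap_eq H hqm (hqel hl₀) hl₀c).2.1 x).1 hx).2))
    (fun x hx => ((Ap_eq H hqm (hqel hl₀) hl₀c).2.1 x).2 ⟨hKl₀ hx, (hiff x).1 hx⟩)
  have hKnc : ¬ K ≤ center G := hAl₀ ▸ Ap_noncentral H hqm (hqel hl₀) hcl₀
  -- the other lines
  have hother : ∀ l ∈ (Q : Subgroup G), l ∉ Pp q l₀ → l ∉ center G → Ap q l ≤ center G := by
    intro l hl hln hlc x hx
    by_contra hxc
    have h1 : l₀ ∈ Pp q l := mem_line H hqm L hl hlc hx hxc hl₀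
      (mem_C_symm (hKl₀ ((hiff x).2 ((((Ap_eq H hqm (hqel hl) hlc).2.1 x).1 hx).2))))
    refine hln ?_
    rw [(L.line l hl hlc l₀ h1 hl₀c).1]
    exact ((Pp_eq H hqm (hqel hl) hlc).2.2.2.1 l).2 ⟨self_mem_C l, hqel hl⟩
  obtain ⟨l₁, hl₁, hl₁n, hl₁c⟩ := exists_off_line H hqm L hl₀ hl₀c
  have hAl₁ := hother l₁ hl₁ hl₁n hl₁c
  have hcl₁ : cl l₁ = m * n := (cl_cases H hl₁c).resolve_left fun h =>
    Ap_noncentral H hqm (hqel hl₁) h hAl₁
  have hKab : ∀ x ∈ K, ∀ y ∈ K, x * y = y * x := by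
    intro x hx y hy
    by_cases hyc : y ∈ center G
    · exact mem_center_iff.1 hyc x
    · have hcly : cl y = m := (cl_cases H hyc).resolve_right fun h =>
        hyc (coel_central_of_MN H hqm (hqel hl₁) hcl₁ hAl₁ h (self_mem_C y) ((hiff y).1 hy))
      exact mem_C.1 (le_C_of_cl H hqm hKn hKco hKi (hcly.trans hmq) hx)
  set M := C l₀ with hM
  have hMsup : M = Pp q l₀ ⊔ K := by rw [hM, C_eq_sup H hqm (hqel hl₀) hl₀c, hAl₀]
  have hMab : ∀ x ∈ M, M ≤ C x := by
    have hgen : ∀ x, (x ∈ Pp q l₀ ∨ x ∈ K) → M ≤ C x := by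
      intro x hx
      rw [hMsup]
      refine sup_le (fun p hp => mem_C.2 ?_) fun k hk => mem_C.2 ?_
      · rcases hx with hx | hx
        · exact L.abelian l₀ hl₀ hl₀c p hp x hx
        · exact mem_centralizer_iff.1 ((Ap_eq H hqm (hqel hl₀) hl₀c).2.2.1 (hAl₀.symm ▸ hx)) p hp
      · rcases hx with hx | hx
        · exact (mem_centralizer_iff.1 ((Ap_eq H hqm (hqel hl₀) hl₀c).2.2.1 (hAl₀.symm ▸ hk)) x hx).symm
        · exact hKab k hk x hx
    intro x hx y hy
    refine mem_C_symm ?_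
    revert x
    show M ≤ C y
    rw [hMsup]
    exact sup_le (fun p hp => mem_C_symm (hgen p (Or.inl hp) hy))
      fun k hk => mem_C_symm (hgen k (Or.inr hk) hy)
  have hMidx : M.index = m := hcl₀
  have hset : (M : Set G) = {x : G | cl x = 1 ∨ cl x = m} := by
    ext x
    simp only [SetLike.mem_coe, Set.mem_setOf_eq]
    refine ⟨fun hx => ?_, fun hx => ?_⟩
    · have h1 : cl x ∣ M.index := index_dvd_of_le (hMab x hx)
      rw [hMidx, hmq, Nat.dvd_prime hq.out] at h1
      rwa [hmq]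
    · rcases hx with hx | hx
      · exact center_le_C l₀ (cl_eq_one_iff.1 hx)
      · have hxK := le_C_of_cl H hqm hKn hKco hKi (hx.trans hmq)
        obtain ⟨x₁, h1, x₂, h2, e', hx1, hx2⟩ := exists_parts q x
        rw [← e']
        refine mul_mem ?_ (hKl₀ ((hiff x₂).2 hx2))
        obtain ⟨k, hk, hkx⟩ := exists_conj_by_K hKn hKco hKi hx1 Q
        have hK1 : K ≤ C x₁ := hxK.trans (zpow_C h1)
        rw [mem_C.1 (hK1 hk), mul_inv_cancel_right] at hkx
        by_contra hn
        have hx1n : x₁ ∉ Pp q l₀ := fun h => hn ((Pp_eq H hqm (hqel hl₀) hl₀c).1 h)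
        have hx1c : x₁ ∉ center G := fun h => hn (center_le_C l₀ h)
        exact hKnc fun y hy => hother x₁ hkx hx1n hx1c
          (((Ap_eq H hqm (hqel hkx) hx1c).2.1 y).2 ⟨hK1 hy, (hiff y).1 hy⟩)
  haveI hMn : M.Normal := by
    refine ⟨fun x hx g => ?_⟩
    have h1 : cl x = 1 ∨ cl x = m := (Set.ext_iff.1 hset x).1 hx
    exact (Set.ext_iff.1 hset _).2 (by rwa [Set.mem_setOf_eq, cl_conj])
  refine ⟨?_, ⟨M, hMn, hset, hMidx, ⟨⟨fun x y => Subtype.ext ?_⟩⟩⟩, K, hKn, hmq ▸ hKco, a, hmq ▸ hKi⟩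
  · -- `l₁` permutes `K` fixing only the central elements
    haveI := hKn
    letI : MulAction (zpowers l₁) K :=
      MulAction.compHom K ((MulAut.conjNormal (H := K)).comp (zpowers l₁).subtype)
    have hfix : Nat.card (MulAction.fixedPoints (zpowers l₁) K) = Nat.card (K ⊓ center G : Subgroup G) := by
      refine Nat.card_congr
        { toFun := fun x => ⟨(x.1 : G), ?_⟩
          invFun := fun x => ⟨⟨x.1, (Subgroup.mem_inf.1 x.2).1⟩, ?_⟩
          left_inv := fun _ => rfl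
          right_inv := fun _ => rfl }
      · have h1 := congrArg Subtype.val (x.2 ⟨l₁, mem_zpowers l₁⟩)
        change l₁ * (x.1 : G) * l₁⁻¹ = x.1 at h1
        exact Subgroup.mem_inf.2 ⟨x.1.2, hAl₁ (((Ap_eq H hqm (hqel hl₁) hl₁c).2.1 _).2
          ⟨mem_C.2 (mul_inv_eq_iff_eq_mul.1 h1).symm, (hiff _).1 x.1.2⟩)⟩
      · intro u
        refine Subtype.ext ?_
        show (u : G) * x.1 * (u : G)⁻¹ = x.1
        rw [mem_center_iff.1 (Subgroup.mem_inf.1 x.2).2 u, mul_inv_cancel_right]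
    have hmod := (qel_iff_zpowers.1 (hqel hl₁)).card_modEq_card_fixedPoints K
    rw [hfix] at hmod
    -- `|K| = n * |K ∩ Z|`
    have hA : Ap q l₁ = K ⊓ center G := le_antisymm
      (le_inf (fun x hx => (hiff x).2 ((((Ap_eq H hqm (hqel hl₁) hl₁c).2.1 x).1 hx).2)) hAl₁)
      fun x hx => ((Ap_eq H hqm (hqel hl₁) hl₁c).2.1 x).2
        ⟨center_le_C l₁ (Subgroup.mem_inf.1 hx).2, (hiff x).1 (Subgroup.mem_inf.1 hx).1⟩
    have h1 := Ap_card_cl H hqm (hqel hl₁) hl₁c
    rw [hA, hcl₁, ← Ap_card_cl H hqm (hqel hl₀) hl₀c, hAl₀, hcl₀] at h1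
    have hm0 : 0 < m := by have := H.hm; omega
    have h2 : Nat.card (K ⊓ center G : Subgroup G) * n = Nat.card K := by
      refine Nat.eq_of_mul_eq_mul_right (Nat.mul_pos (pow_pos hq.out.pos (cexp G q m)) hm0) ?_
      calc Nat.card (K ⊓ center G : Subgroup G) * n * (q ^ cexp G q m * m)
          = Nat.card (K ⊓ center G : Subgroup G) * q ^ cexp G q m * (m * n) := by ring
        _ = Nat.card K * q ^ cexp G q m * m := h1
        _ = _ := by ring
    rw [← h2] at hmod
    have h3 : Nat.card (K ⊓ center G : Subgroup G) * n ≡ Nat.card (K ⊓ center G : Subgroup G) * 1 [MOD q] := by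
      rwa [mul_one]
    have h4 := Nat.ModEq.cancel_left_of_coprime
      (Nat.Coprime.coprime_dvd_left (card_dvd_of_le inf_le_left) hKco).symm.gcd_eq_one h3
    exact (Nat.modEq_iff_dvd' (le_of_lt H.hn)).1 h4.symm
  · exact mem_C.1 (hMab y.1 y.2 x.2)

end CfsgLib.ClassSizeMid
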