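import Cfsg.Agent.Lib.ClassSizeMid.AOne

/-!
The lines of a Sylow `q`-subgroup `Q`, for class sizes `1`, `m`, `m * n` with coprime `m`, `n` and
`q` dividing `m`: `Q` has order `q ^ 2` modulo the centre, is the union of its subgroups
`Pp q l`, and every element centralizes a conjugate of one of them.
-/

set_option autoImplicit false
set_option linter.style.haveILetI false

namespace CfsgLib.ClassSizeMid

open Subgroup Cfsg.Agent.CoprimeTopClasses
open scoped commutatorElement Pointwise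

variable {G : Type*} [Group G] [Finite G] {q : ℕ} [hq : Fact q.Prime]

/-- A subgroup of index `q` in a `q`-group. -/
theorem index_q_facts {P Q : Subgroup G} (hQ : IsPGroup q Q) (hPQ : P ≤ Q)
    (hc : Nat.card P * q = Nat.card Q) :
    Q ≤ normalizer (P : Set G) ∧
      ∀ g ∈ Q, g ^ q ∈ P ∧ ∀ g' ∈ Q, g * g' * g⁻¹ * g'⁻¹ ∈ P := by
  have hidx : (P.subgroupOf Q).index = q := by
    have h1 := (P.subgroupOf Q).card_mul_index
    rw [Nat.card_congr (subgroupOfEquivOfLe hPQ).toEquiv, ← hc] at h1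
    exact Nat.eq_of_mul_eq_mul_left Nat.card_pos h1
  obtain ⟨k, hk⟩ := hQ.exists_card_eq
  have hk0 : k ≠ 0 := by
    rintro rfl
    rw [pow_zero, ← hc] at hk
    exact hq.out.one_lt.ne' (Nat.eq_one_of_mul_eq_one_left hk)
  haveI hn : (P.subgroupOf Q).Normal :=
    normal_of_index_eq_minFac_card (by rw [hidx, hk, Nat.Prime.pow_minFac hq.out hk0])
  haveI : IsCyclic (Q ⧸ P.subgroupOf Q) :=
    isCyclic_of_prime_card (p := q) (by rw [← Subgroup.index_eq_card, hidx])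
  refine ⟨(normal_subgroupOf_iff_le_normalizer hPQ).1 hn, fun g hg => ⟨?_, fun g' hg' => ?_⟩⟩
  · have h1 : (⟨g, hg⟩ : Q) ^ (P.subgroupOf Q).index ∈ P.subgroupOf Q := Subgroup.pow_index_mem _ _
    rw [hidx, mem_subgroupOf] at h1
    simpa using h1
  · obtain ⟨c, hc'⟩ := IsCyclic.exists_generator (α := Q ⧸ P.subgroupOf Q)
    obtain ⟨i, hi⟩ := mem_zpowers_iff.1 (hc' (QuotientGroup.mk ⟨g, hg⟩))
    obtain ⟨j, hj⟩ := mem_zpowers_iff.1 (hc' (QuotientGroup.mk ⟨g', hg'⟩))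
    have h1 : ((⟨g, hg⟩ * ⟨g', hg'⟩ * ⟨g, hg⟩⁻¹ * ⟨g', hg'⟩⁻¹ : Q) : Q ⧸ P.subgroupOf Q) = 1 := by
      simp only [QuotientGroup.mk_mul, QuotientGroup.mk_inv, ← hi, ← hj]
      group
    have h2 := (QuotientGroup.eq_one_iff _).1 h1
    rw [mem_subgroupOf] at h2
    simpa using h2

variable {m n : ℕ} (H : Hyp G m n) (hqm : q ∣ m)

include H hqm in
theorem card_sylow (Q : Sylow q G) : Nat.card Q = q ^ cexp G q m * q := by
  obtain ⟨e, -, hec⟩ := exists_noncentral_qel H hqm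
  rw [Q.card_eq_multiplicity, ← pow_succ, ← (fac_card H hqm hec).2, a_eq_one H hqm]

include H hqm in
/-- A Sylow subgroup containing `P`, a full `q`-subgroup, has a special element in `P`. -/
theorem spec_of_full {P : Subgroup G} (hP : IsPGroup q P)
    (hc : Nat.card P = q ^ cexp G q m) :
    ∃ Q : Sylow q G, ∃ e ∈ P, Spec q (Q : Subgroup G) e := by
  obtain ⟨Q, hQ⟩ := hP.exists_le_sylow
  obtain ⟨u, hu, huc⟩ := full_not_central H hqm hc
  obtain ⟨e, he, hs⟩ := exists_spec Q.isPGroup' hQ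
    (index_q_facts Q.isPGroup' hQ (by rw [hc]; exact (card_sylow H hqm Q).symm)).1
    (fun h => huc (h hu))
  exact ⟨Q, e, he, hs⟩

/-- Conjugating special elements into a given Sylow subgroup. -/
theorem Spec.exists_conj {Q' : Sylow q G} {e : G} (h : Spec q (Q' : Subgroup G) e) (Q : Sylow q G) :
    ∃ g : G, Spec q (Q : Subgroup G) (g * e * g⁻¹) := by
  obtain ⟨g, hg⟩ := MulAction.exists_smul_eq G Q' Q
  refine ⟨g, ?_⟩
  rw [← hg]
  exact h.conj g

include H hqm in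
/-- Every non-central element centralizes a conjugate of a special element of `Q`. -/
theorem exists_conj_mem_C_spec (Q : Sylow q G) {y : G} (hy : y ∉ center G) :
    ∃ g e : G, Spec q (Q : Subgroup G) e ∧ g * y * g⁻¹ ∈ C e := by
  obtain ⟨P, -, hP, hPC, hc⟩ := exists_full H hqm hy (IsPGroup.of_bot (p := q)) bot_le
  obtain ⟨Q', e, he, hs⟩ := spec_of_full H hqm hP hc
  obtain ⟨g, hg⟩ := hs.exists_conj Q
  exact ⟨g, _, hg, conj_mem_C.2 (mem_C_symm (hPC he))⟩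

include H hqm in
theorem Ap_noncentral_of_cl_eq {e f : G} (he : QEl q e) (hec : e ∉ center G) (hf : QEl q f)
    (hfc : f ∉ center G) (hcl : cl e = cl f) (hA : ¬ Ap q f ≤ center G) :
    ¬ Ap q e ≤ center G := by
  intro hle
  have h1 := Ap_card_cl H hqm he hec
  rw [hcl, ← Ap_card_cl H hqm hf hfc] at h1
  have h2 := Nat.eq_of_mul_eq_mul_right (pow_pos hq.out.pos _) (Nat.eq_of_mul_eq_mul_right (cl_pos f) h1)
  have h3 : Ap q e ≤ Ap q f := fun g hg => ((Ap_eq H hqm hf hfc).2.1 g).2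
    ⟨center_le_C f (hle hg), (((Ap_eq H hqm he hec).2.1 g).1 hg).2⟩
  exact hA (eq_of_le_of_card_ge h3 h2.ge ▸ hle)

include H hqm in
/-- A special element of smallest class with non-central `q'`-part. -/
theorem exists_base (Q : Sylow q G) :
    ∃ e₀ : G, Spec q (Q : Subgroup G) e₀ ∧ ¬ Ap q e₀ ≤ center G ∧
      ∀ u : G, QEl q u → u ∉ center G → cl e₀ ≤ cl u := by
  by_cases hT : ∃ x : G, QEl q x ∧ cl x = m
  · obtain ⟨x, hx, hclx⟩ := hT
    have hxc := not_central_of_cl H (Or.inl hclx)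
    obtain ⟨-, hP, hc, hmem, -⟩ := Pp_eq H hqm hx hxc
    obtain ⟨Q', e, he, hs⟩ := spec_of_full H hqm hP hc
    obtain ⟨g, hg⟩ := hs.exists_conj Q
    have hle := (Ap_mono H hqm hx hxc he hs.nc).2.1
    have hcle : cl e = m := (cl_cases H hs.nc).resolve_right fun h => by
      rw [hclx, h] at hle
      have := H.hm; have := H.hn
      nlinarith
    have hcl : cl (g * e * g⁻¹) = m := (cl_conj e g).trans hcle
    refine ⟨_, hg, Ap_noncentral H hqm (hg.qel Q.isPGroup') hcl, fun u _ huc => hcl ▸ ?_⟩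
    rcases cl_cases H huc with h | h <;> rw [h]
    exact Nat.le_mul_of_pos_right _ (by have := H.hn; omega)
  · push Not at hT
    have hall : ∀ u : G, QEl q u → u ∉ center G → cl u = m * n := fun u hu huc =>
      (cl_cases H huc).resolve_left (hT u hu)
    obtain ⟨u, hu, huc⟩ := exists_noncentral_qel H hqm
    obtain ⟨e, -, he⟩ := exists_spec_normal (N := ⊤) inferInstance hu (mem_top u) huc Q
    have heq := he.qel Q.isPGroup'
    obtain ⟨y, hy⟩ := H.exm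
    obtain ⟨y₁, h1, y₂, h2, e', hy1, hy2⟩ := exists_parts q y
    have hy2c : y₂ ∉ center G := fun h => hT y₁ hy1 (by
      rw [← hy, ← e']; exact congrArg Subgroup.index (C_mul_center h).symm)
    obtain ⟨f, hf, hfq, hfc⟩ := exists_qel H hqm hy2c
    refine ⟨e, he, Ap_noncentral_of_cl_eq H hqm heq he.nc hfq hfc
      ((hall e heq he.nc).trans (hall f hfq hfc).symm) (fun h => hy2c (h ?_)), fun u hu huc => ?_⟩
    · exact ((Ap_eq H hqm hfq hfc).2.1 y₂).2 ⟨mem_C_symm hf, hy2⟩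
    · rw [hall u hu huc, hall e heq he.nc]

include H hqm in
theorem C_eq_sup {e : G} (he : QEl q e) (hec : e ∉ center G) : C e = Pp q e ⊔ Ap q e := by
  refine le_antisymm (fun y hy => ?_) (sup_le (Pp_eq H hqm he hec).1 (Ap_eq H hqm he hec).1)
  obtain ⟨y₁, h1, y₂, h2, e', hy1, hy2⟩ := exists_parts q y
  rw [← e']
  exact mul_mem (mem_sup_left (((Pp_eq H hqm he hec).2.2.2.1 _).2 ⟨zpowers_le.2 hy h1, hy1⟩))
    (mem_sup_right (((Ap_eq H hqm he hec).2.1 _).2 ⟨zpowers_le.2 hy h2, hy2⟩))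

/-- The structure of `Q` modulo the centre. -/
structure LineData (q m : ℕ) (Q : Sylow q G) : Prop where
  cardQ : Nat.card Q = q ^ cexp G q m * q
  cardZ : Nat.card ((Q : Subgroup G) ⊓ center G : Subgroup G) * q = q ^ cexp G q m
  pow : ∀ g ∈ (Q : Subgroup G), g ^ q ∈ center G
  comm : ∀ g ∈ (Q : Subgroup G), ∀ g' ∈ (Q : Subgroup G), g * g' * g⁻¹ * g'⁻¹ ∈ center G
  le : ∀ l ∈ (Q : Subgroup G), l ∉ center G → Pp q l ≤ (Q : Subgroup G)
  line : ∀ l ∈ (Q : Subgroup G), l ∉ center G → ∀ l' ∈ Pp q l, l' ∉ center G →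
    Pp q l' = Pp q l ∧ C l' = C l
  abelian : ∀ l ∈ (Q : Subgroup G), l ∉ center G → ∀ u ∈ Pp q l, ∀ v ∈ Pp q l, u * v = v * u
  span : ∀ l ∈ (Q : Subgroup G), l ∉ center G →
    Pp q l = zpowers l ⊔ ((Q : Subgroup G) ⊓ center G)
  cover : ∀ y : G, y ∉ center G → ∃ g : G, ∃ l ∈ (Q : Subgroup G), l ∉ center G ∧ g * y * g⁻¹ ∈ C l

include H hqm in
theorem LineData.mk' (Q : Sylow q G) : LineData q m Q := by
  have hcard := card_sylow H hqm Q
  set Qs := (Q : Subgroup G) with hQs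
  have hQp : IsPGroup q Qs := Q.isPGroup'
  have hcQ : Nat.card Qs = q ^ cexp G q m * q := hcard
  obtain ⟨e₀, he₀, hA₀, hmin⟩ := exists_base H hqm Q
  have he₀q := he₀.qel hQp
  obtain ⟨hn₀, hP₀Q, hPC₀⟩ := he₀.facts H hqm Q
  obtain ⟨-, hP₀, hc₀, hmem₀, -⟩ := Pp_eq H hqm he₀q he₀.nc
  have hsame : ∀ h ∈ Pp q e₀, h ∉ center G → Ap q h = Ap q e₀ := fun h hh hhc => by
    obtain ⟨-, hle, heq⟩ := Ap_mono H hqm he₀q he₀.nc hh hhc
    exact heq (le_antisymm hle (hmin h ((hmem₀ h).1 hh).2 hhc))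
  -- a second special element
  obtain ⟨e₁, he₁, hne⟩ : ∃ e, Spec q Qs e ∧ Pp q e ≠ Pp q e₀ := by
    by_contra hno
    push Not at hno
    have hCe : ∀ e, Spec q Qs e → C e = C e₀ := fun e he => by
      have hmem : e ∈ Pp q e₀ := hno e he ▸
        (((Pp_eq H hqm (he.qel hQp) he.nc).2.2.2.1 e).2 ⟨self_mem_C e, he.qel hQp⟩)
      rw [C_eq_sup H hqm (he.qel hQp) he.nc, C_eq_sup H hqm he₀q he₀.nc, hno e he, hsame e hmem he.nc]
    have htop : C e₀ = ⊤ := by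
      refine CfsgLib.PGroup.IndexPow.eq_top_of_conj_cover fun y => ?_
      by_cases hy : y ∈ center G
      · exact ⟨1, by simpa using center_le_C e₀ hy⟩
      · obtain ⟨g, e, he, hg⟩ := exists_conj_mem_C_spec H hqm Q hy
        exact ⟨g⁻¹, by rw [inv_inv]; exact hCe e he ▸ hg⟩
    exact he₀.nc (central_iff_C.2 htop)
  have he₁q := he₁.qel hQp
  obtain ⟨hn₁, hP₁Q, hPC₁⟩ := he₁.facts H hqm Q
  obtain ⟨-, hP₁, hc₁, hmem₁, -⟩ := Pp_eq H hqm he₁q he₁.nc
  have hnle : ¬ Pp q e₁ ≤ Pp q e₀ := fun h => hne (eq_of_le_of_card_ge h (by rw [hc₀, hc₁]))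
  -- the two meet in the centre
  have hinf : ∀ h ∈ Pp q e₀, h ∈ Pp q e₁ → h ∈ center G := by
    intro h hh₀ hh₁
    by_contra hhc
    obtain ⟨a, ha, hac⟩ := SetLike.not_le_iff_exists.1 hA₀
    have hhq : QEl q h := ((hmem₀ h).1 hh₀).2
    have hPa : Pp q e₀ ≤ C a := fun p hp =>
      mem_C.2 (mem_centralizer_iff.1 ((Ap_eq H hqm he₀q he₀.nc).2.2.1 ha) p hp)
    have hin : ∀ g ∈ Qs, g ∈ C a → g ∈ Pp q e₀ := fun g hg hga =>
      le_of_normalizes H hqm hac hP₀ hPa hc₀ (qel_iff_zpowers.1 (qel_of_mem hQp hg))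
        (zpowers_le.2 hga) (zpowers_le.2 (hn₀ hg)) (mem_zpowers g)
    have he₁a : e₁ ∈ C a := by
      have h1 : e₁ ∈ Pp q h := ((Pp_eq H hqm hhq hhc).2.2.2.1 e₁).2
        ⟨mem_C_symm ((hmem₁ h).1 hh₁).1, he₁q⟩
      have h2 : a ∈ Ap q h := (hsame h hh₀ hhc).symm ▸ ha
      exact mem_C.2 (mem_centralizer_iff.1 ((Ap_eq H hqm hhq hhc).2.2.1 h2) e₁ h1)
    have h3 := hsame e₁ (hin e₁ he₁.mem he₁a) he₁.nc
    refine hnle fun g hg => hin g (hP₁Q hg) ?_
    exact mem_C.2 (mem_centralizer_iff.1 ((Ap_eq H hqm he₁q he₁.nc).2.2.1 (h3.symm ▸ ha)) g hg)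
  have hf₀ := index_q_facts hQp hP₀Q (by rw [hc₀, hcQ])
  have hf₁ := index_q_facts hQp hP₁Q (by rw [hc₁, hcQ])
  have hpow : ∀ g ∈ Qs, g ^ q ∈ center G := fun g hg =>
    hinf _ (hf₀.2 g hg).1 (hf₁.2 g hg).1
  have hcomm : ∀ g ∈ Qs, ∀ g' ∈ Qs, g * g' * g⁻¹ * g'⁻¹ ∈ center G := fun g hg g' hg' =>
    hinf _ ((hf₀.2 g hg).2 g' hg') ((hf₁.2 g hg).2 g' hg')
  have hspec : ∀ l ∈ Qs, l ∉ center G → Spec q Qs l := fun l hl hlc =>
    ⟨hl, hlc, hpow l hl, fun g hg => hcomm g hg l hl⟩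
  have hzP : ∀ l ∈ Qs, l ∉ center G → Qs ⊓ center G ≤ Pp q l := fun l hl hlc z hz =>
    ((hspec l hl hlc).facts H hqm Q).2.2 z (Subgroup.mem_inf.1 hz).1 |>.2
      (center_le_C l (Subgroup.mem_inf.1 hz).2)
  -- the order of the central part
  have hcz : Nat.card (Qs ⊓ center G : Subgroup G) * q = q ^ cexp G q m := by
    have hzeq : Qs ⊓ center G = Pp q e₁ ⊓ Pp q e₀ :=
      le_antisymm (le_inf (hzP e₁ he₁.mem he₁.nc) (hzP e₀ he₀.mem he₀.nc))
        (le_inf (inf_le_right.trans hP₀Q) fun h hh =>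
          hinf h (Subgroup.mem_inf.1 hh).2 (Subgroup.mem_inf.1 hh).1)
    have h1 := relIndex_mul_relIndex ⊥ (Qs ⊓ center G) (Pp q e₀) bot_le (hzP e₀ he₀.mem he₀.nc)
    rw [relIndex_bot_left, relIndex_bot_left, hc₀] at h1
    have h2 : (Pp q e₁).relIndex (Pp q e₀) ∣ q := by
      haveI : ((Pp q e₁).subgroupOf Qs).Normal := (normal_subgroupOf_iff_le_normalizer hP₁Q).2 hf₁.1
      have h3 := relIndex_dvd_index_of_normal ((Pp q e₁).subgroupOf Qs) ((Pp q e₀).subgroupOf Qs)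
      rw [relIndex_subgroupOf hP₀Q] at h3
      have h4 := ((Pp q e₁).subgroupOf Qs).card_mul_index
      rw [Nat.card_congr (subgroupOfEquivOfLe hP₁Q).toEquiv, hcQ, hc₁] at h4
      rwa [Nat.eq_of_mul_eq_mul_left (pow_pos hq.out.pos _) h4] at h3
    have h5 : (Qs ⊓ center G).relIndex (Pp q e₀) = q := by
      rw [hzeq, inf_relIndex_right]
      refine ((Nat.dvd_prime hq.out).1 h2).resolve_left fun h => ?_
      exact hne (eq_of_le_of_card_ge (relIndex_eq_one.1 h) (by rw [hc₀, hc₁])).symm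
    rw [← h1, h5]
  have hspan : ∀ l ∈ Qs, l ∉ center G → Pp q l = zpowers l ⊔ (Qs ⊓ center G) := by
    intro l hl hlc
    obtain ⟨-, hlQ, hlPC⟩ := (hspec l hl hlc).facts H hqm Q
    obtain ⟨-, hlP, hlcard, -⟩ := Pp_eq H hqm (qel_of_mem hQp hl) hlc
    have hle : zpowers l ⊔ (Qs ⊓ center G) ≤ Pp q l :=
      sup_le (zpowers_le.2 ((hlPC l hl).2 (self_mem_C l))) (hzP l hl hlc)
    refine (eq_of_le_of_card_ge hle ?_).symm
    obtain ⟨i, hi⟩ := (hlP.to_le hle).exists_card_eq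
    have hlt : Qs ⊓ center G < zpowers l ⊔ (Qs ⊓ center G) := lt_of_le_not_ge le_sup_right fun h =>
      hlc (Subgroup.mem_inf.1 (h (mem_sup_left (mem_zpowers l)))).2
    have h6 : Nat.card (Qs ⊓ center G : Subgroup G) < q ^ i :=
      hi ▸ lt_of_le_of_ne (card_le_of_le hlt.le) fun h => hlt.ne (eq_of_le_of_card_ge hlt.le h.ge)
    rw [hlcard, hi]
    refine Nat.pow_le_pow_right hq.out.pos ?_
    have h7 : q ^ cexp G q m < q ^ (i + 1) := by
      rw [← hcz, pow_succ]; exact Nat.mul_lt_mul_of_pos_right h6 hq.out.pos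
    have := (Nat.pow_lt_pow_iff_right hq.out.one_lt).1 h7
    omega
  have hab : ∀ l ∈ Qs, l ∉ center G → ∀ u ∈ Pp q l, ∀ v ∈ Pp q l, u * v = v * u := by
    intro l hl hlc u hu v hv
    rw [hspan l hl hlc] at hu hv
    haveI : (Qs ⊓ center G).Normal := ⟨fun z hz g => by
      rw [mem_center_iff.1 (Subgroup.mem_inf.1 hz).2 g, mul_inv_cancel_right]; exact hz⟩
    obtain ⟨_, ⟨i, rfl⟩, z, hz, rfl⟩ := mem_sup_of_normal_right.1 hu
    obtain ⟨_, ⟨j, rfl⟩, z', hz', rfl⟩ := mem_sup_of_normal_right.1 hv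
    have c1 : Commute (l ^ i) (l ^ j) := (Commute.refl l).zpow_zpow i j
    have c2 : ∀ {w x : G}, w ∈ Qs ⊓ center G → Commute x w := fun {w x} hw =>
      mem_center_iff.1 (Subgroup.mem_inf.1 hw).2 x
    exact ((c1.mul_left (c2 hz).symm).mul_right ((c2 hz').mul_left (c2 hz'))).eq
  refine ⟨hcard, hcz, hpow, hcomm, fun l hl hlc => ((hspec l hl hlc).facts H hqm Q).2.1, ?_, hab, hspan, ?_⟩
  · intro l hl hlc l' hl' hl'c
    obtain ⟨-, hlP, hlcard, hlmem, -⟩ := Pp_eq H hqm (qel_of_mem hQp hl) hlc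
    obtain ⟨-, hlP', hlcard', hlmem', -⟩ := Pp_eq H hqm ((hlmem l').1 hl').2 hl'c
    have hle : Pp q l ≤ Pp q l' := fun u hu =>
      (hlmem' u).2 ⟨mem_C.2 (hab l hl hlc u hu l' hl'), ((hlmem u).1 hu).2⟩
    have hPeq : Pp q l' = Pp q l := (eq_of_le_of_card_ge hle (by rw [hlcard, hlcard'])).symm
    refine ⟨hPeq, ?_⟩
    have hll : l ∈ Pp q l' := hle ((hlmem l).2 ⟨self_mem_C l, qel_of_mem hQp hl⟩)
    have hA : Ap q l' = Ap q l := le_antisymm
      (Ap_mono H hqm ((hlmem l').1 hl').2 hl'c hll hlc).1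
      (Ap_mono H hqm (qel_of_mem hQp hl) hlc hl' hl'c).1
    rw [C_eq_sup H hqm ((hlmem l').1 hl').2 hl'c, C_eq_sup H hqm (qel_of_mem hQp hl) hlc, hPeq, hA]
  · intro y hy
    obtain ⟨g, e, he, hg⟩ := exists_conj_mem_C_spec H hqm Q hy
    exact ⟨g, e, he.mem, he.nc, hg⟩

end CfsgLib.ClassSizeMid
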