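import Cfsg.Agent.Lib.ClassSizeMid.Basic
import Cfsg.Agent.Lib.Solvable.FrattiniFitting
import Cfsg.Agent.Lib.Coprime.Generation
import Cfsg.Agent.Lib.CharDeep.PrimePowerClass

/-!
Elements of a Sylow `q`-subgroup that are central of order `q` modulo the centre of the group:
their existence, and the proof that `q` divides the class sizes only to the first power.
-/

set_option autoImplicit false
set_option linter.style.haveILetI false

namespace CfsgLib.ClassSizeMid

open Subgroup Cfsg.Agent.CoprimeTopClasses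
open scoped commutatorElement

variable {G : Type*} [Group G] [Finite G] {q : ℕ} [hq : Fact q.Prime]

/-- Non-central elements of `Q` that are central of order `q` in `Q` modulo the centre of `G`. -/
structure Spec (q : ℕ) (Q : Subgroup G) (e : G) : Prop where
  mem : e ∈ Q
  nc : e ∉ center G
  pow : e ^ q ∈ center G
  comm : ∀ g ∈ Q, g * e * g⁻¹ * e⁻¹ ∈ center G

theorem exists_spec {Q N : Subgroup G} (hQ : IsPGroup q Q) (hNQ : N ≤ Q)
    (hnorm : Q ≤ normalizer (N : Set G)) (hN : ¬ N ≤ center G) : ∃ e ∈ N, Spec q Q e := by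
  set π := QuotientGroup.mk' (center G)
  set Qb := Q.map π with hQb
  have hQbp : IsPGroup q Qb := hQ.map π
  haveI := hQbp.isNilpotent
  set Nb := (N.map π).subgroupOf Qb with hNb
  haveI : Nb.Normal := (normal_subgroupOf_iff_le_normalizer (map_mono hNQ)).2
    ((map_mono hnorm).trans (le_normalizer_map π))
  have hne : Nb ≠ ⊥ := fun h0 => hN fun x hx => by
    have h1 : (⟨π x, mem_map_of_mem π (hNQ hx)⟩ : Qb) ∈ Nb := mem_subgroupOf.2 (mem_map_of_mem π hx)
    rw [h0, mem_bot, Subtype.ext_iff] at h1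
    exact (QuotientGroup.eq_one_iff x).1 h1
  obtain ⟨z, hz, hz1⟩ := (Nb ⊓ center Qb).bot_or_exists_ne_one.resolve_left
    (Solvable.FrattiniFitting.inf_center_ne_bot Nb hne)
  obtain ⟨k, hk⟩ := hQbp z
  obtain ⟨j, hj, hjq⟩ : ∃ j, z ^ q ^ j ≠ 1 ∧ z ^ q ^ (j + 1) = 1 := by
    classical
    have hex : ∃ k, z ^ q ^ k = 1 := ⟨k, hk⟩
    have h0 : Nat.find hex ≠ 0 := by
      intro e
      have := Nat.find_spec hex
      rw [e, pow_zero, pow_one] at this
      exact hz1 this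
    refine ⟨Nat.find hex - 1, Nat.find_min hex (by omega), ?_⟩
    rw [Nat.sub_add_cancel (Nat.one_le_iff_ne_zero.2 h0)]
    exact Nat.find_spec hex
  set w := z ^ q ^ j with hw
  obtain ⟨hwN, hwc⟩ : w ∈ Nb ∧ w ∈ center Qb :=
    ⟨pow_mem (mem_inf.1 hz).1 _, pow_mem (mem_inf.1 hz).2 _⟩
  obtain ⟨e, he, hee⟩ := mem_subgroupOf.1 hwN
  refine ⟨e, he, hNQ he, fun hc => hj (Subtype.ext ?_), ?_, fun g hg => ?_⟩
  · rw [← hee]; exact (QuotientGroup.eq_one_iff e).2 hc
  · refine (QuotientGroup.eq_one_iff _).1 ?_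
    show π (e ^ q) = 1
    rw [map_pow, hee, ← SubmonoidClass.coe_pow, hw, ← pow_mul, ← pow_succ, hjq]; rfl
  · refine (QuotientGroup.eq_one_iff _).1 ?_
    show π (g * e * g⁻¹ * e⁻¹) = 1
    have h1 := congrArg Subtype.val (mem_center_iff.1 hwc ⟨π g, mem_map_of_mem π hg⟩)
    push_cast at h1
    rw [map_mul, map_mul, map_mul, map_inv, map_inv, hee, h1]
    group

omit [Finite G] hq in
theorem Spec.conj {Q : Subgroup G} {e : G} (h : Spec q Q e) (x : G) :
    Spec q (Q.map (MulAut.conj x).toMonoidHom) (x * e * x⁻¹) := by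
  refine ⟨⟨e, h.mem, rfl⟩, fun hc => h.nc ?_, ?_, ?_⟩
  · have := (inferInstance : (center G).Normal).conj_mem _ hc x⁻¹
    simpa [mul_assoc] using this
  · rw [conj_pow]; exact (inferInstance : (center G).Normal).conj_mem _ h.pow x
  · rintro _ ⟨g, hg, rfl⟩
    have := (inferInstance : (center G).Normal).conj_mem _ (h.comm g hg) x
    simpa [mul_assoc] using this

theorem Spec.qel {Q : Subgroup G} (hQ : IsPGroup q Q) {e : G} (h : Spec q Q e) : QEl q e :=
  qel_of_mem hQ h.mem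

variable {m n : ℕ} (H : Hyp G m n) (hqm : q ∣ m)

include H hqm in
/-- The Sylow subgroup normalizes the centralizer of a special element and meets it in the Sylow
subgroup of that centralizer. -/
theorem Spec.facts (Q : Sylow q G) {e : G} (h : Spec q (Q : Subgroup G) e) :
    ((Q : Subgroup G) ≤ normalizer (Pp q e : Set G)) ∧ Pp q e ≤ (Q : Subgroup G) ∧
      ∀ g ∈ (Q : Subgroup G), (g ∈ Pp q e ↔ g ∈ C e) := by
  have he := h.qel Q.isPGroup'
  have hn : (Q : Subgroup G) ≤ normalizer (Pp q e : Set G) := fun g hg =>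
    Pp_conj_eq H hqm (C_conj_eq (h.comm g hg))
  obtain ⟨-, hP, -, hmem, -⟩ := Pp_eq H hqm he h.nc
  have h1 : IsPGroup q ((Q : Subgroup G) ⊔ Pp q e : Subgroup G) :=
    Q.isPGroup'.to_sup_of_normal_right' hP hn
  have h2 : Pp q e ≤ (Q : Subgroup G) := (le_sup_right).trans (Q.is_maximal' h1 le_sup_left).le
  exact ⟨hn, h2, fun g hg => ⟨fun hgP => ((hmem g).1 hgP).1,
    fun hgC => (hmem g).2 ⟨hgC, qel_of_mem Q.isPGroup' hg⟩⟩⟩

include H hqm in
/-- If the `q'`-part of the centralizer of a special element is not central, then `q ^ 2 ∤ m`. -/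
theorem a_eq_one_of_noncentral (Q : Sylow q G) {e : G} (h : Spec q (Q : Subgroup G) e)
    (hA : ¬ Ap q e ≤ center G) : m.factorization q = 1 := by
  have he := h.qel Q.isPGroup'
  obtain ⟨hn, hPQ, hPC⟩ := h.facts H hqm Q
  obtain ⟨-, hP, hPc, hmem, -⟩ := Pp_eq H hqm he h.nc
  obtain ⟨hAC, hAmem, hAP, -⟩ := Ap_eq H hqm he h.nc
  have h1le := hq.out.factorization_pos_of_dvd (show m ≠ 0 by have := H.hm; omega) hqm
  by_contra ha
  set Qs := (Q : Subgroup G)
  have hpow : ∀ g ∈ Qs, g ^ q ∈ Pp q e ∧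
      ∀ g' ∈ Qs, g * g' * g⁻¹ * g'⁻¹ ∈ Pp q e := by
    intro g hg
    have key : ∀ g ∈ Qs, ∃ z ∈ center G, g * e * g⁻¹ = z * e := fun g hg =>
      ⟨_, h.comm g hg, by group⟩
    refine ⟨(hPC _ (pow_mem hg q)).2 ?_, fun g' hg' => (hPC _ (mul_mem (mul_mem (mul_mem hg hg')
      (inv_mem hg)) (inv_mem hg'))).2 ?_⟩
    · obtain ⟨z, hz, hze⟩ := key g hg
      have hit : ∀ i : ℕ, g ^ i * e * (g ^ i)⁻¹ = z ^ i * e := by
        intro i
        induction i with
        | zero => simp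
        | succ i ih =>
          calc g ^ (i + 1) * e * (g ^ (i + 1))⁻¹ = g * (g ^ i * e * (g ^ i)⁻¹) * g⁻¹ := by
                rw [pow_succ']; group
            _ = (g * z ^ i * g⁻¹) * (g * e * g⁻¹) := by rw [ih]; group
            _ = z ^ i * (z * e) := by
                rw [hze, mem_center_iff.1 (pow_mem hz i) g, mul_inv_cancel_right]
            _ = z ^ (i + 1) * e := by rw [pow_succ]; group
      have hzq : z ^ q = 1 := by
        have h2 : (g * e * g⁻¹) ^ q = e ^ q := by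
          rw [conj_pow, mem_center_iff.1 h.pow g, mul_inv_cancel_right]
        rw [hze, (show Commute z e from (mem_center_iff.1 hz e).symm).mul_pow, mul_eq_right] at h2
        exact h2
      have := hit q
      rw [hzq, one_mul, mul_inv_eq_iff_eq_mul] at this
      exact mem_C.2 this
    · obtain ⟨z, hz, hze⟩ := key g hg
      obtain ⟨z', hz', hze'⟩ := key g' hg'
      have hinv : ∀ {u w : G}, w ∈ center G → u * e * u⁻¹ = w * e → u⁻¹ * e * u = w⁻¹ * e := by
        intro u w hw hu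
        calc u⁻¹ * e * u = u⁻¹ * (w⁻¹ * (w * e)) * u := by group
          _ = u⁻¹ * (w⁻¹ * (u * e * u⁻¹)) * u := by rw [hu]
          _ = u⁻¹ * (u * w⁻¹) * e := by rw [mem_center_iff.1 (inv_mem hw) u]; group
          _ = w⁻¹ * e := by group
      have e1 := hinv hz hze
      have e2 := hinv hz' hze'
      refine mem_C.2 (mul_inv_eq_iff_eq_mul.1 ?_)
      calc g * g' * g⁻¹ * g'⁻¹ * e * (g * g' * g⁻¹ * g'⁻¹)⁻¹
          = g * (g' * (g⁻¹ * (g'⁻¹ * e * g') * g) * g'⁻¹) * g⁻¹ := by group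
        _ = g * (g' * (g⁻¹ * (z'⁻¹ * e) * g) * g'⁻¹) * g⁻¹ := by rw [e2]
        _ = g * (g' * ((g⁻¹ * z'⁻¹ * g) * (g⁻¹ * e * g)) * g'⁻¹) * g⁻¹ := by group
        _ = g * (g' * (z'⁻¹ * (z⁻¹ * e)) * g'⁻¹) * g⁻¹ := by
            rw [e1, mem_center_iff.1 (inv_mem hz') g⁻¹, inv_mul_cancel_right]
        _ = g * ((g' * (z'⁻¹ * z⁻¹) * g'⁻¹) * (g' * e * g'⁻¹)) * g⁻¹ := by group
        _ = g * ((z'⁻¹ * z⁻¹) * (z' * e)) * g⁻¹ := by
            rw [hze', mem_center_iff.1 (mul_mem (inv_mem hz') (inv_mem hz)) g', mul_inv_cancel_right]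
        _ = (g * (z'⁻¹ * z⁻¹ * z') * g⁻¹) * (g * e * g⁻¹) := by group
        _ = e := by
            rw [hze, mem_center_iff.1 (mul_mem (mul_mem (inv_mem hz') (inv_mem hz)) hz') g,
              mul_inv_cancel_right, mem_center_iff.1 (inv_mem hz) z'⁻¹]
            group
  -- the quotient by `P * Z` in `L = A * Q`
  set L := Ap q e ⊔ Qs with hL
  set N₀ := Pp q e ⊔ center G with hN₀
  have hLn : L ≤ normalizer (N₀ : Set G) :=
    (sup_le (hAP.trans (centralizer_le_normalizer _)) hn).trans normalizer_le_normalizer_sup_normal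
  let M := (normalizer (N₀ : Set G))
  set N := N₀.subgroupOf M
  haveI : N.Normal := normal_subgroupOf_of_le_normalizer le_rfl
  let φ := QuotientGroup.mk' N
  set Ab := (Qs.subgroupOf M).map φ with hAb
  set Kb := ((Ap q e).subgroupOf M).map φ with hKb
  have hQM : Qs ≤ M := le_sup_right.trans hLn
  have hAM : Ap q e ≤ M := le_sup_left.trans hLn
  have hphi : ∀ {x : M}, φ x = 1 ↔ (x : G) ∈ N₀ := fun {x} =>
    (QuotientGroup.eq_one_iff x).trans mem_subgroupOf
  haveI hcommA : IsMulCommutative Ab := by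
    refine ⟨⟨?_⟩⟩
    rintro ⟨_, a, ha, rfl⟩ ⟨_, b, hb, rfl⟩
    apply Subtype.ext
    show φ a * φ b = φ b * φ a
    rw [← mul_inv_eq_one, ← map_mul, ← map_mul, ← map_inv, ← map_mul]
    refine hphi.2 (mem_sup_left ?_)
    push_cast
    have := (hpow _ (mem_subgroupOf.1 ha)).2 _ (mem_subgroupOf.1 hb)
    simpa [mul_assoc] using this
  have hAbp : IsPGroup q Ab := (Q.isPGroup'.of_equiv (subgroupOfEquivOfLe hQM).symm).map φ
  have hKco : (Nat.card Kb).Coprime q := by
    refine Nat.Coprime.coprime_dvd_left (card_map_dvd _ φ) ?_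
    rw [Nat.card_congr (subgroupOfEquivOfLe hAM).toEquiv]
    refine Nat.Coprime.symm (hq.out.coprime_iff_not_dvd.2 fun hd => ?_)
    obtain ⟨g, hg⟩ := exists_prime_orderOf_dvd_card' (G := Ap q e) q hd
    have h2 := ((hAmem _).1 g.2).2
    rw [CoEl, orderOf_coe, hg] at h2
    exact hq.out.one_lt.ne' ((Nat.coprime_self q).1 h2)
  have hcop : (Nat.card Ab).Coprime (Nat.card Kb) := by
    obtain ⟨k, hk⟩ := hAbp.exists_card_eq
    rw [hk]; exact Nat.Coprime.pow_left k hKco.symm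
  have hAnorm : Qs ≤ normalizer (Ap q e : Set G) := fun g hg => by
    refine Coprime.mem_normalizer_of_conj_map_le fun x hx => ?_
    obtain ⟨hx1, hx2⟩ := (hAmem x).1 hx
    exact (hAmem _).2 ⟨C_conj_eq (h.comm g hg) ▸ conj_mem_C.2 hx1, hx2.conj g⟩
  have hAbK : Ab ≤ normalizer (Kb : Set _) := by
    rintro _ ⟨a, ha, rfl⟩
    refine Coprime.mem_normalizer_of_conj_map_le ?_
    rintro _ ⟨k, hk, rfl⟩
    exact ⟨a * k * a⁻¹, mem_subgroupOf.2 (le_normalizer_iff.1 hAnorm _ (mem_subgroupOf.1 ha) _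
      (mem_subgroupOf.1 hk)), by simp⟩
  have hnc : ¬ IsCyclic Ab := by
    intro hcyc
    obtain ⟨⟨w, g₀, hg₀, rfl⟩, hgen⟩ := hcyc.exists_generator
    have hQle : Qs ≤ Pp q e ⊔ zpowers (g₀ : G) := by
      intro x hx
      obtain ⟨i, hi⟩ := mem_zpowers_iff.1 (hgen ⟨φ ⟨x, hQM hx⟩, ⟨x, hQM hx⟩, hx, rfl⟩)
      have h1 : φ g₀ ^ i = φ ⟨x, hQM hx⟩ := congrArg Subtype.val hi
      rw [← map_zpow, ← mul_inv_eq_one, ← map_inv, ← map_mul, hphi] at h1
      push_cast at h1
      -- the element lies in `Qs`, so only the `q`-part of the centre matters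
      have h2 : (g₀ : G) ^ i * x⁻¹ ∈ Qs := mul_mem (zpow_mem (mem_subgroupOf.1 hg₀) i) (inv_mem hx)
      have h3 : N₀ ≤ C e := sup_le (Pp_eq H hqm he h.nc).1 (center_le_C e)
      have h4 := (hPC _ h2).2 (h3 h1)
      rw [show x = ((g₀ : G) ^ i * x⁻¹)⁻¹ * (g₀ : G) ^ i by group]
      exact mul_mem (inv_mem (mem_sup_left h4)) (mem_sup_right (zpow_mem (mem_zpowers _) i))
    have hg0 : zpowers (g₀ : G) ≤ Qs := zpowers_le.2 (mem_subgroupOf.1 hg₀)
    have hgn : zpowers (g₀ : G) ≤ normalizer (Pp q e : Set G) := hg0.trans hn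
    have hgq := (hpow _ (mem_subgroupOf.1 hg₀)).1
    let f : Pp q e × Fin q → Qs := fun pi =>
      ⟨(pi.1 : G) * (g₀ : G) ^ (pi.2 : ℕ), mul_mem (hPQ pi.1.2) (pow_mem (mem_subgroupOf.1 hg₀) _)⟩
    have hf : Function.Surjective f := by
      rintro ⟨x, hx⟩
      have hx' : x ∈ ((Pp q e ⊔ zpowers (g₀ : G) : Subgroup G) : Set G) := hQle hx
      rw [coe_mul_of_right_le_normalizer_left _ _ hgn] at hx'
      obtain ⟨p, hp, y, hy, rfl⟩ := hx'
      obtain ⟨i, rfl⟩ := mem_zpowers_iff.1 hy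
      have hq0 : (0 : ℤ) < q := by exact_mod_cast hq.out.pos
      obtain ⟨j, hj⟩ : ∃ j : ℕ, (j : ℤ) = i % q := ⟨(i % q).toNat, Int.toNat_of_nonneg (Int.emod_nonneg _ hq0.ne')⟩
      have hjq : j < q := by have := Int.emod_lt_of_pos i hq0; omega
      refine ⟨(⟨p * ((g₀ : G) ^ q) ^ (i / q), mul_mem hp (zpow_mem hgq _)⟩, ⟨j, hjq⟩), Subtype.ext ?_⟩
      show p * ((g₀ : G) ^ q) ^ (i / q) * (g₀ : G) ^ j = p * (g₀ : G) ^ i
      rw [mul_assoc, ← zpow_natCast, ← zpow_natCast, ← zpow_mul, ← zpow_add, hj, Int.mul_ediv_add_emod]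
    have h1 := Nat.card_le_card_of_surjective f hf
    rw [Nat.card_prod, (Pp_eq H hqm he h.nc).2.2.1, Nat.card_eq_fintype_card (α := Fin q),
      Fintype.card_fin, Q.card_eq_multiplicity, ← (fac_card H hqm h.nc).2, pow_add] at h1
    have h2 := (Nat.pow_le_pow_iff_right hq.out.one_lt).1
      ((Nat.le_of_mul_le_mul_left h1 (pow_pos hq.out.pos _)).trans_eq (pow_one q).symm)
    omega
  have hKtriv : Kb = ⊥ := by
    rw [← Coprime.iSup_centralizer_singleton hnc hAbK hcop]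
    refine le_bot_iff.1 (iSup₂_le fun a ha => ?_)
    obtain ⟨⟨g, hg, rfl⟩, ha1⟩ := ha
    intro k hk
    obtain ⟨⟨y, hy, rfl⟩, hky⟩ := mem_inf.1 hk
    rw [mem_bot, hphi]
    have hcomm : φ (g * y * g⁻¹ * y⁻¹) = 1 := by
      have := mem_centralizer_singleton_iff.1 hky
      rw [map_mul, map_mul, map_mul, map_inv, map_inv, ← this]; group
    rw [hphi] at hcomm
    push_cast at hcomm
    have hgQ := mem_subgroupOf.1 hg
    have hyA := mem_subgroupOf.1 hy
    have h2 : (g : G) * y * (g : G)⁻¹ * (y : G)⁻¹ ∈ Ap q e :=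
      mul_mem (le_normalizer_iff.1 hAnorm _ hgQ _ hyA) (inv_mem hyA)
    have hz : (g : G) * y * (g : G)⁻¹ * (y : G)⁻¹ ∈ center G := by
      obtain ⟨p, hp, z, hz, hpz⟩ := mem_sup_of_normal_right.1 hcomm
      rw [← hpz] at h2 ⊢
      obtain ⟨k, hk⟩ := ((hmem p).1 hp).2
      have h3 : (p * z) ^ q ^ k ∈ center G := by
        rw [(show Commute p z from mem_center_iff.1 hz p).mul_pow, ← hk, pow_orderOf_eq_one, one_mul]
        exact pow_mem hz _
      obtain ⟨i, hi⟩ := exists_pow_eq_self_of_coprime (x := p * z) (n := q ^ k)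
        (Nat.Coprime.pow_left _ ((hAmem _).1 h2).2.symm)
      exact hi ▸ pow_mem h3 i
    by_contra hyN
    have hyc : (y : G) ∉ center G := fun hc => hyN (mem_sup_right hc)
    have hgy := commute_of_comm_mem_center (coprime_of_el (qel_of_mem Q.isPGroup' hgQ)
      ((hAmem _).1 hyA).2) hz
    have hPy : Pp q e ≤ C (y : G) := fun p hp =>
      mem_C.2 (mem_centralizer_iff.1 (hAP hyA) p hp)
    have := le_of_normalizes H hqm hyc hP hPy hPc (qel_iff_zpowers.1 (qel_of_mem Q.isPGroup' hgQ))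
      (zpowers_le.2 (mem_C.2 hgy.eq)) (zpowers_le.2 (hn hgQ)) (mem_zpowers _)
    exact ha1 (hphi.2 (mem_sup_left this))
  refine hA fun y hy => ?_
  have h1 : φ ⟨y, hAM hy⟩ ∈ Kb := mem_map_of_mem φ (mem_subgroupOf.2 hy)
  rw [hKtriv, mem_bot, hphi] at h1
  obtain ⟨p, hp, z, hz, hpz⟩ := mem_sup_of_normal_right.1 h1
  obtain ⟨k, hk⟩ := ((hmem p).1 hp).2
  have h3 : y ^ q ^ k ∈ center G := by
    show (⟨y, hAM hy⟩ : M).1 ^ q ^ k ∈ center G
    rw [← hpz, (show Commute p z from mem_center_iff.1 hz p).mul_pow, ← hk, pow_orderOf_eq_one, one_mul]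
    exact pow_mem hz _
  obtain ⟨i, hi⟩ := exists_pow_eq_self_of_coprime (x := y) (n := q ^ k)
    (Nat.Coprime.pow_left _ ((hAmem _).1 hy).2.symm)
  exact hi ▸ pow_mem h3 i

end CfsgLib.ClassSizeMid
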